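import Mathlib.Algebra.Ring.Int.Parity
import Mathlib.Tactic

/-!
# The degrees in the principal slice of a group with a character of degree 16 and `p = 19`

A Diophantine system: the degrees `d`, `d'`, `D` of the three nontrivial characters of the
principal block, their signs, and the multiplicities in the square of the character.
-/

set_option autoImplicit false

namespace Cfsg.Agent.Lib.Sixteen80.Arith

/-- The zero form forces a square. -/
theorem square_of_form {a a' δ d d' D X Y W : ℤ} (ha : a = 1 ∨ a = -1) (ha' : a' = 1 ∨ a' = -1)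
    (hδ : δ = 1 ∨ δ = -1) (hd : 2 ≤ d) (hd' : 2 ≤ d') (hD : 2 ≤ D)
    (hdeg : a * d + a' * d' + δ * D = 1) (hlin : a * X + a' * Y + δ * W = 0)
    (hW : W ≠ 0)
    (hquad : a * X ^ 2 * d' * D + a' * Y ^ 2 * d * D + δ * W ^ 2 * d * d' = 0) :
    IsSquare (-(a * a' * δ * d * d' * D)) := by
  have ha2 : a * a = 1 := by rcases ha with rfl | rfl <;> norm_num
  have ha'2 : a' * a' = 1 := by rcases ha' with rfl | rfl <;> norm_num
  have hδ2 : δ * δ = 1 := by rcases hδ with rfl | rfl <;> norm_num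
  have hWeq : W = -δ * (a * X + a' * Y) := by linear_combination δ * hlin - W * hδ2
  subst hWeq
  by_cases hY : Y = 0
  · exfalso
    subst hY
    have hX : X ≠ 0 := by rintro rfl; simp at hW
    have h1 : X ^ 2 * d' * (a * D + δ * d) = 0 := by
      linear_combination hquad - δ * X ^ 2 * d * d' * δ * δ * ha2 - δ * X ^ 2 * d * d' * hδ2
    have h2 : a * D + δ * d = 0 := by
      rcases mul_eq_zero.1 h1 with h | h
      · rcases mul_eq_zero.1 h with h | h
        · exact absurd (pow_eq_zero_iff two_ne_zero |>.1 h) hX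
        · omega
      · exact h
    rcases ha with rfl | rfl <;> rcases ha' with rfl | rfl <;> rcases hδ with rfl | rfl <;> omega
  · obtain ⟨α, hα⟩ : ∃ α, α = a * D * d' + δ * d * d' := ⟨_, rfl⟩
    obtain ⟨β, hβ⟩ : ∃ β, β = δ * a * a' * d * d' := ⟨_, rfl⟩
    have hsq : (α * X + β * Y) ^ 2 = -(a * a' * δ * d * d' * D) * Y ^ 2 := by
      subst hα hβ
      rcases ha with rfl | rfl <;> rcases ha' with rfl | rfl <;> rcases hδ with rfl | rfl
      all_goals ring_nf at hquad hdeg ⊢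
      all_goals first
        | linear_combination (D * d' + d * d') * hquad - (d * d' * D * Y ^ 2) * hdeg
        | linear_combination (D * d' + d * d') * hquad + (d * d' * D * Y ^ 2) * hdeg
        | linear_combination (D * d' - d * d') * hquad - (d * d' * D * Y ^ 2) * hdeg
        | linear_combination (D * d' - d * d') * hquad + (d * d' * D * Y ^ 2) * hdeg
        | linear_combination (-D * d' + d * d') * hquad - (d * d' * D * Y ^ 2) * hdeg
        | linear_combination (-D * d' + d * d') * hquad + (d * d' * D * Y ^ 2) * hdeg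
        | linear_combination (-D * d' - d * d') * hquad - (d * d' * D * Y ^ 2) * hdeg
        | linear_combination (-D * d' - d * d') * hquad + (d * d' * D * Y ^ 2) * hdeg
    have hdvd : Y ∣ α * X + β * Y :=
      (Int.pow_dvd_pow_iff two_ne_zero).1 ⟨-(a * a' * δ * d * d' * D), by rw [hsq]; ring⟩
    obtain ⟨r, hr⟩ := hdvd
    refine ⟨r, mul_right_cancel₀ (pow_ne_zero 2 hY) ?_⟩
    rw [← hsq, hr]
    ring

/-- The degrees, normalised so that the signs are `1` and `-1`. -/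
theorem degrees_main {d d' D : ℤ} {k k' : ℤ} (hd : (19 : ℤ) ∣ d + 1) (hd' : (19 : ℤ) ∣ d' - 1)
    (hD : (19 : ℤ) ∣ D - 3) (h1 : 9 ≤ d) (h2 : 9 ≤ d') (h3 : 9 ≤ D) (hdeg : d - d' + D = 1)
    (hk : 0 ≤ k) (hk' : 0 ≤ k') (hK : k - k' - 1 ≤ -3)
    (hb : D * (2 + 6 * (-3 - (k - k' - 1))) + d * k + d' * k' + 1 ≤ 256)
    (hsq : IsSquare (d * d' * D)) : D = 22 ∧ d = 56 ∧ d' = 77 := by
  have hb1 : 2 * D + 2 * d' + 1 ≤ 256 := by
    nlinarith [mul_nonneg (show (0 : ℤ) ≤ D by omega)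
      (show (0 : ℤ) ≤ -3 - (k - k' - 1) by omega), mul_nonneg (show (0 : ℤ) ≤ d by omega) hk,
      mul_nonneg (show (0 : ℤ) ≤ d' by omega) (show (0 : ℤ) ≤ k' - 2 by omega)]
  obtain ⟨i, hi⟩ := hd
  obtain ⟨j, hj⟩ := hD
  have hi1 : 1 ≤ i ∧ i ≤ 5 := by omega
  have hj1 : 1 ≤ j ∧ j ≤ 3 := by omega
  obtain rfl : d' = d + D - 1 := by omega
  obtain rfl : d = 19 * i - 1 := by omega
  obtain rfl : D = 19 * j + 3 := by omega
  obtain ⟨hi1, hi2⟩ := hi1
  obtain ⟨hj1, hj2⟩ := hj1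
  interval_cases i <;> interval_cases j <;> first
    | omega
    | (norm_num at hsq)

/-- The possible degrees. -/
theorem degrees {a a' δ d d' D : ℤ} {k k' : ℤ} (ha : a = 1 ∨ a = -1) (ha' : a' = 1 ∨ a' = -1)
    (hδ : δ = 1 ∨ δ = -1) (hd : (19 : ℤ) ∣ d + a) (hd' : (19 : ℤ) ∣ d' + a')
    (hD : (19 : ℤ) ∣ D - 3 * δ) (h1 : 9 ≤ d) (h2 : 9 ≤ d') (h3 : 9 ≤ D)
    (hdeg : a * d + a' * d' + δ * D = 1) (hk : 0 ≤ k) (hk' : 0 ≤ k')
    (hpos : δ = 1 → a * k + a' * k' - 1 ≤ -3 ∧
      D * (2 + 6 * (-3 - (a * k + a' * k' - 1))) + d * k + d' * k' + 1 ≤ 256)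
    (hneg : δ = -1 → D * (6 * (a * k + a' * k' - 1) + 16) + d * k + d' * k' + 1 ≤ 256)
    (hsq : IsSquare (-(a * a' * δ * d * d' * D))) :
    δ = 1 ∧ D = 22 ∧ ((a = 1 ∧ a' = -1 ∧ d = 56 ∧ d' = 77) ∨
      (a = -1 ∧ a' = 1 ∧ d = 77 ∧ d' = 56)) := by
  have hprod : 0 < d * d' * D := by positivity
  have hnn := hsq.nonneg
  rcases hδ with rfl | rfl
  · obtain ⟨hK, hb⟩ := hpos rfl
    rcases ha with rfl | rfl <;> rcases ha' with rfl | rfl
    · exfalso; ring_nf at hnn hprod; omega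
    · obtain ⟨e1, e2, e3⟩ := degrees_main (k := k) (k' := k') hd (by simpa [sub_eq_add_neg] using hd')
        (by simpa using hD) h1 h2 h3 (by omega) hk hk' (by omega)
        (by ring_nf at hb ⊢; omega) (by ring_nf at hsq ⊢; exact hsq)
      exact ⟨rfl, e1, Or.inl ⟨rfl, rfl, e2, e3⟩⟩
    · obtain ⟨e1, e2, e3⟩ := degrees_main (k := k') (k' := k) hd' (by simpa [sub_eq_add_neg] using hd)
        (by simpa using hD) h2 h1 h3 (by omega) hk' hk (by omega)
        (by ring_nf at hb ⊢; omega) (by ring_nf at hsq ⊢; exact hsq)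
      exact ⟨rfl, e1, Or.inr ⟨rfl, rfl, e3, e2⟩⟩
    · exfalso; ring_nf at hnn hprod; omega
  · exfalso
    rcases ha with rfl | rfl <;> rcases ha' with rfl | rfl
    · have hb := hneg rfl
      have : 35 ≤ D := by omega
      nlinarith
    · ring_nf at hnn hprod; omega
    · ring_nf at hnn hprod; omega
    · omega

end Cfsg.Agent.Lib.Sixteen80.Arith
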