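import Cfsg.Agent.Lib.BlocksChars5.Basic
import Cfsg.Agent.Lib.Characters.Linear
import Cfsg.Agent.Lib.FirstPower.Average
import Cfsg.Agent.Lib.FirstPower.Consequences
import Cfsg.Agent.Lib.RecogThree.M11.Rep

/-!
# Multiplicities on the product of a cyclic group of prime order and a commuting subgroup

For a function on `⟨y⟩ V` that is constant on the cosets `y ^ i v`, `i ≠ 0`, the multiplicities of
a character of `V` on the fixed space of `y` and on one of the other eigenspaces.
-/

set_option autoImplicit false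
set_option linter.unusedSectionVars false
set_option linter.style.haveILetI false

namespace Cfsg.Agent.Lib.Sixteen80.Component

open Cfsg.Agent.Lib Cfsg.Agent.Lib.FirstPower Average Periods Cfsg.Agent.Lib.Characters.Basic
open scoped ComplexConjugate

universe u

variable {G : Type u} [Group G] [Finite G] {q : ℕ} [Fact q.Prime] {y : G}

/-- The map from the product. -/
noncomputable def prodHom (hy : y ^ q = 1) (V : Subgroup G) (hV : ∀ v ∈ V, Commute y v) :
    Multiplicative (ZMod q) × V →* G where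
  toFun a := y ^ (Multiplicative.toAdd a.1).val * (a.2 : G)
  map_one' := by simp
  map_mul' a b := by
    simp only [Prod.fst_mul, Prod.snd_mul, toAdd_mul, pow_val_add hy, Subgroup.coe_mul]
    rw [mul_assoc, mul_assoc, ← mul_assoc (y ^ (Multiplicative.toAdd b.1).val) (a.2 : G),
      ((hV a.2 a.2.2).pow_left _).eq]
    simp only [mul_assoc]

/-- The linear character `a ↦ chr (j a)`. -/
noncomputable def linHom (q : ℕ) [Fact q.Prime] (j : ZMod q) : Multiplicative (ZMod q) →* ℂ where
  toFun a := chr q (j * Multiplicative.toAdd a)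
  map_one' := by simp [chr_zero]
  map_mul' a b := by simp only [toAdd_mul, mul_add, chr_add]

theorem isCharacter_linHom (q : ℕ) [Fact q.Prime] (j : ZMod q) :
    Cfsg.IsCharacter (Multiplicative (ZMod q)) fun a => linHom q j a :=
  IsCharacter_of_isIrrCharacter (BlocksChars5.Basic.isIrr_of_hom (linHom q j).toHomUnits)

/-- The weight of a component. -/
theorem sum_split (F : ℂ) (F' : ℂ) (j : ZMod q) :
    ∑ z : ZMod q, (if z = 0 then F else F') * conj (chr q (j * z)) =
      F + (if j = 0 then ((q : ℂ) - 1) else -1) * F' := by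
  rw [Consequences.sum_zmod_split]
  simp only [mul_zero, chr_zero, map_one, mul_one, if_pos, Units.ne_zero, if_false,
    ← Finset.mul_sum, ← map_sum, sum_chr_units]
  split_ifs <;> simp [mul_comm]

open scoped Classical in
/-- The components are nonnegative integers. -/
theorem exists_mult (hy : y ^ q = 1) (V : Subgroup G) [Fintype V] (hV : ∀ v ∈ V, Commute y v)
    {F : G → ℂ} (hF : Cfsg.IsCharacter G F)
    (hc : ∀ i : ZMod q, i ≠ 0 → ∀ v ∈ V, F (y ^ i.val * v) = F (y * v))
    (j : ZMod q) {ψ : V → ℂ} (hψ : Cfsg.IsCharacter V ψ) :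
    ∃ n : ℕ, Cfsg.classInner (fun v : V => (F v + (if j = 0 then ((q : ℂ) - 1) else -1) * F (y * v)) /
      (q : ℂ)) ψ = n := by
  let L : Multiplicative (ZMod q) × V → ℂ := fun a => linHom q j a.1 * ψ a.2
  have hL : Cfsg.IsCharacter _ L :=
    isCharacter_mul (χ := fun a : Multiplicative (ZMod q) × V => linHom q j a.1)
      (ψ := fun a => ψ a.2)
      (isCharacter_comp (MonoidHom.fst (Multiplicative (ZMod q)) V) (isCharacter_linHom q j))
      (isCharacter_comp (MonoidHom.snd (Multiplicative (ZMod q)) V) hψ)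
  obtain ⟨n, hn⟩ := exists_classInner_nat (isCharacter_comp (prodHom hy V hV) hF) hL
  refine ⟨n, ?_⟩
  rw [← hn]
  have hq0 : (q : ℂ) ≠ 0 := Nat.cast_ne_zero.2 (Fact.out : q.Prime).ne_zero
  simp only [Cfsg.classInner, Nat.card_eq_fintype_card, Function.comp_apply]
  rw [Fintype.card_prod, Fintype.card_multiplicative, ZMod.card, Nat.cast_mul]
  rw [Fintype.sum_prod_type, Finset.sum_comm, mul_inv, mul_comm (q : ℂ)⁻¹, mul_assoc,
    Finset.mul_sum (a := (q : ℂ)⁻¹)]
  congr 1
  refine Finset.sum_congr rfl fun v _ => ?_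
  rw [Fintype.sum_equiv Multiplicative.toAdd (fun a : Multiplicative (ZMod q) =>
    (⇑(prodHom hy V hV) (a, v)) |> fun g => F g * conj (L (a, v)))
    (fun z : ZMod q => (if z = 0 then F v else F (y * v)) * conj (chr q (j * z)) * conj (ψ v))
    fun a => ?_, ← Finset.sum_mul, sum_split]
  · field_simp
  · have hpz : prodHom hy V hV (a, v) = y ^ (Multiplicative.toAdd a).val * (v : G) := rfl
    simp only [hpz, L, map_mul]
    rw [← mul_assoc]
    congr 2
    by_cases hz : Multiplicative.toAdd a = 0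
    · rw [if_pos hz, hz, ZMod.val_zero, pow_zero, one_mul]
    · rw [if_neg hz, hc _ hz v v.2]

/-- The multiplicity of a primitive eigenvalue. -/
theorem exists_root_mult {w : G} {N : ℕ} (hN : N ≠ 0) (hw : w ^ N = 1) {ω : ℂ} (hω : ω ^ N = 1)
    {F : G → ℂ} (hF : Cfsg.IsCharacter G F) :
    ∃ n : ℕ, ∑ i ∈ Finset.range N, ω ^ i * F (w ^ i) = (N : ℂ) * n := by
  obtain ⟨d, ρ, rfl⟩ := hF
  set T := ω • ρ w with hT
  set S := ∑ r ∈ Finset.range N, T ^ r with hS
  have hTe : T ^ N = 1 := by rw [hT, smul_pow, ← map_pow, hw, map_one, hω, one_smul]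
  have hTS : T * S = S := by
    have h2 := mul_geom_sum (x := T) N
    rw [hTe, sub_self, sub_mul, one_mul, sub_eq_zero, ← hS] at h2
    exact h2
  have hpow : ∀ r, T ^ r * S = S := by
    intro r
    induction r with
    | zero => rw [pow_zero, one_mul]
    | succ r ih => rw [pow_succ, mul_assoc, hTS, ih]
  have hSS : S * S = (N : ℂ) • S := by
    conv_lhs => rw [hS, Finset.sum_mul, ← hS]
    rw [Finset.sum_congr rfl fun r _ => hpow r, Finset.sum_const, Finset.card_range,
      Nat.cast_smul_eq_nsmul]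
  have hN0 : (N : ℂ) ≠ 0 := Nat.cast_ne_zero.2 hN
  have hQ : ((N : ℂ)⁻¹ • S) * ((N : ℂ)⁻¹ • S) = (N : ℂ)⁻¹ • S := by
    rw [smul_mul_smul_comm, hSS, smul_smul, mul_assoc, inv_mul_cancel₀ hN0, mul_one]
  refine ⟨Module.finrank ℂ (LinearMap.range ((N : ℂ)⁻¹ • S)), ?_⟩
  rw [← RecogThree.M11.Rep.trace_idem _ hQ, map_smul, smul_eq_mul, ← mul_assoc,
    mul_inv_cancel₀ hN0, one_mul, hS, map_sum]
  refine Finset.sum_congr rfl fun i _ => ?_
  rw [hT, smul_pow, ← map_pow, map_smul, smul_eq_mul]
  rfl

open scoped Classical in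
/-- Column orthogonality as a count. -/
theorem sum_irr_count [Fintype G] [Fintype (Cfsg.IrrCharacter G)] (a b : G) :
    ∑ χ : Cfsg.IrrCharacter G, (χ : G → ℂ) a * conj ((χ : G → ℂ) b) =
      ∑ g : G, if g * a * g⁻¹ = b then (1 : ℂ) else 0 := by
  rw [Characters.Complete.sum_irr_mul_conj, Finset.sum_boole]
  split_ifs with hc
  · obtain ⟨c, rfl⟩ := isConj_iff.1 hc
    rw [Nat.card_eq_fintype_card, Fintype.card_subtype]
    congr 1
    refine Finset.card_nbij' (fun g => c * g) (fun g => c⁻¹ * g) ?_ ?_ ?_ ?_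
    · intro g hg
      simp only [Finset.coe_filter, Finset.mem_univ, true_and, Set.mem_ofPred_eq,
        Subgroup.mem_centralizer_singleton_iff] at hg ⊢
      calc c * g * a * (c * g)⁻¹ = c * (g * a * g⁻¹) * c⁻¹ := by group
        _ = _ := by rw [hg, mul_inv_cancel_right]
    · intro g hg
      simp only [Finset.coe_filter, Finset.mem_univ, true_and, Set.mem_ofPred_eq,
        Subgroup.mem_centralizer_singleton_iff] at hg ⊢
      rw [← mul_inv_eq_iff_eq_mul]
      calc c⁻¹ * g * a * (c⁻¹ * g)⁻¹ = c⁻¹ * (g * a * g⁻¹) * c := by group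
        _ = _ := by rw [hg]; group
    · intro g _; simp
    · intro g _; simp
  · rw [Finset.filter_eq_empty_iff.2 fun g _ hg => hc (isConj_iff.2 ⟨g, hg⟩), Finset.card_empty,
      Nat.cast_zero]

end Cfsg.Agent.Lib.Sixteen80.Component
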