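import Cfsg.Agent.Lib.Sixteen80.Principal
import Cfsg.Agent.Lib.Sixteen80.Component
import Cfsg.Agent.Lib.Characters.DefectZero
import Mathlib.GroupTheory.SchurZassenhaus

/-!
# No group has a faithful character of degree 16 with `p = 19` and three exponents

The exceptional principal character has degree 22, so 11 divides the group order.  The
multiplicities at an element of order 11 force its centralizer to be central times cyclic, which
contradicts the column orthogonality at that element.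
-/

set_option autoImplicit false
set_option linter.unusedSectionVars false
set_option linter.style.haveILetI false

namespace Cfsg.Agent.Lib.Sixteen80.Eleven

open Cfsg.Agent.Lib Cfsg.Agent.Lib.FirstPower Average Periods Cfsg.Agent.Lib.Characters.Basic
open Family (pow_eq_one_of_order)
open Cfsg.Agent.Lib.DegSubTwo.Basic (lam lam_one lam_pow apply_mul_central pw pw_apply
  exists_exp_pair)
open FeitSmall FeitSmall.Setup FeitSmall.Spikes FeitSmall.Eigen
open Cfsg.Agent.Lib.FeitSmall.Slice (Fam exists_family)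
open Cfsg.Agent.Lib.Induced.Basic (classInner_add_left classInner_sub_left classInner_smul_left
  classInner_conj_symm)
open Trivial
open scoped ComplexConjugate

attribute [local instance] BlocksChars5.Basic.irrFintype

universe u

variable [Fact (Nat.Prime 19)] {G : Type u} [Group G] [Finite G] {x : G}
  {ζ : Cfsg.IrrCharacter G} {h : Hyp 19 x ζ}

theorem pow_sixteen (S : Sit h) {z : G} (hz : z ∈ Subgroup.center G) : z ^ 16 = 1 := by
  obtain ⟨s, g, E⟩ := exists_eig h
  have hxp := pow_eq_one_of_order h.ord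
  have hconj : s * x * s⁻¹ = x ^ (g : ZMod 19).val := by
    have h1 := E.conj 1 1
    rwa [pow_one, pow_one, mul_one, pow_val_one hxp] at h1
  obtain ⟨n, ρ, hρ, hρχ⟩ := exists_rep ζ
  haveI := hρ
  have hn : n = 16 := by
    have h0 : (ζ : G → ℂ) 1 = n := by
      rw [← hρχ, Representation.char_one, Module.finrank_fin_fun]
    rw [apply_one_zeta, S.deg] at h0
    exact_mod_cast h0.symm
  let D : G →* ℂ := LinearMap.det.comp ρ
  have hdx : D x = 1 := by
    have h1 : D x ^ 19 = 1 := by rw [← map_pow, hxp, map_one]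
    have h2 : D x ^ (g : ZMod 19).val = D x := by
      rw [← map_pow, ← hconj, map_mul, map_mul, mul_comm (D s), mul_assoc, ← map_mul,
        mul_inv_cancel, map_one, mul_one]
    rcases (Nat.dvd_prime (Fact.out : Nat.Prime 19)).1 (orderOf_dvd_of_pow_eq_one h1) with h3 | h3
    · exact orderOf_eq_one_iff.1 h3
    exfalso
    have h4 := h2.trans (pow_one (D x)).symm
    replace h4 : (g : ZMod 19).val = 1 := pow_injOn_Iio_orderOf
      (by rw [Set.mem_Iio, h3]; exact ZMod.val_lt _)
      (by rw [Set.mem_Iio, h3]; omega) h4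
    have h5 : g = 1 := Units.ext (by
      rw [← ZMod.natCast_zmod_val (g : ZMod 19), h4, Nat.cast_one, Units.val_one])
    have h6 := E.ord
    rw [h5, orderOf_one, S.e_eq] at h6
    omega
  have h7 : D z = 1 :=
    (Subgroup.normalClosure_le_normal (show ({x} : Set G) ⊆ D.ker by simpa using hdx))
      (S.gen ▸ Subgroup.mem_top z)
  change LinearMap.det (ρ z) = 1 at h7
  rw [FeitSmall.Budget.rho_center ρ hρχ hz, LinearMap.det_smul, Module.finrank_fin_fun, map_one,
    mul_one, hn, ← lam_pow ζ hz] at h7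
  refine h.faith _ ?_
  have h8 := apply_mul_central ζ (pow_mem hz 16) (1 : G)
  rwa [one_mul, h7, one_mul] at h8

theorem not_dvd_center_of_odd (S : Sit h) {r : ℕ} (hr : r.Prime) (h2 : r ≠ 2) :
    ¬ r ∣ Nat.card (Subgroup.center G) := fun hd => by
  haveI : Fact r.Prime := ⟨hr⟩
  obtain ⟨⟨z, hz⟩, hzo⟩ := exists_prime_orderOf_dvd_card' r hd
  rw [Subgroup.orderOf_mk] at hzo
  have h1 := orderOf_dvd_of_pow_eq_one (pow_sixteen S hz)
  rw [hzo, show 16 = 2 ^ 4 by norm_num] at h1
  exact h2 ((Nat.prime_dvd_prime_iff_eq hr Nat.prime_two).1 (hr.dvd_of_dvd_pow h1))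

/-- Conjugates fixing the centre agree with `ζ` on regular elements. -/
theorem pw_regular (S : Sit h) {k : ℕ} (hk : k.Coprime (Nat.card G))
    (hkz : ∀ z ∈ Subgroup.center G, z ^ k = z) {g : G} (hg : ¬ 19 ∣ orderOf g) :
    (ζ : G → ℂ) (g ^ k) = (ζ : G → ℂ) g := by
  classical
  obtain ⟨Y, δ, F⟩ := exists_family h S.std.three ζ
  obtain ⟨b, hb⟩ := Fintype.exists_ne_of_one_lt_card
    (show 1 < Fintype.card (Cls h) by rw [S.t_eq]; norm_num) (1 : Cls h)
  obtain ⟨κ₀, hκ₀⟩ := (F.rest ζ (self_mem_slice h ζ)).resolve_right fun hc => by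
    have := hc b 1
    simp [S.std.val, hb] at this
  have hne : (k : ZMod 19) ≠ 0 := by
    rw [Ne, ZMod.natCast_eq_zero_iff]
    intro hd
    exact (Fact.out : Nat.Prime 19).coprime_iff_not_dvd.1
      (hk.of_dvd hd (prime_dvd_card h)) dvd_rfl
  have hψmem : pw ζ hk ∈ slice h (lam ζ) := (mem_slice h).2 fun z hz =>
    lam_conj (fun a => pw_apply ζ hk a) (hkz z hz)
  obtain ⟨κ, hκ⟩ := (F.rest _ hψmem).resolve_right fun hc => by
    have h1 := hc (b * QuotientGroup.mk (Units.mk0 _ hne)) (QuotientGroup.mk (Units.mk0 _ hne))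
    rw [crd_conj h (fun a => pw_apply ζ hk a) (u := Units.mk0 _ hne) rfl,
      crd_conj h (fun a => pw_apply ζ hk a) (u := Units.mk0 _ hne) rfl, mul_inv_cancel_right,
      mul_inv_cancel, S.std.val, S.std.val, if_neg hb, if_pos rfl] at h1
    omega
  rw [← pw_apply ζ hk g, ← hκ, F.reg κ g hg, ← F.reg κ₀ g hg, hκ₀]

/-- The values on the products with a power prime to the order. -/
theorem galois (S : Sit h) {g v : G} (hc : Commute g v) {i : ℕ} (hi : i.Coprime (orderOf g))
    (hco : (orderOf g).Coprime (Nat.lcm (Nat.card (Subgroup.center G)) (orderOf v)))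
    (hg : ¬ 19 ∣ orderOf g) (hv : ¬ 19 ∣ orderOf v) :
    (ζ : G → ℂ) (g ^ i * v) = (ζ : G → ℂ) (g * v) := by
  set L := Nat.lcm (Nat.card (Subgroup.center G)) (orderOf v) with hL
  obtain ⟨r, hr1, hr2⟩ := Nat.chineseRemainder hco i 1
  have hLG : L ∣ Nat.card G :=
    Nat.lcm_dvd (Subgroup.card_subgroup_dvd_card _) (orderOf_dvd_natCard v)
  have hp : Nat.Prime 19 := Fact.out
  have hL19 : ¬ 19 ∣ L := fun hd => by
    rcases hp.dvd_mul.1 (hd.trans (Nat.lcm_dvd_mul _ _)) with h1 | h1
    · exact not_dvd_center h h1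
    · exact hv h1
  have hrm : r.Coprime (orderOf g * L) := Nat.Coprime.mul_right
    (by rw [Nat.Coprime, hr1.gcd_eq]; exact hi)
    (by rw [Nat.Coprime, hr2.gcd_eq, Nat.gcd_one_left])
  obtain ⟨k, hk, -, hkm⟩ := exists_exp_pair (G := G) (prime_dvd_card h) (1 : (ZMod 19)ˣ)
    (hco.mul_dvd_of_dvd_of_dvd (orderOf_dvd_natCard g) hLG)
    (fun hd => (hp.dvd_mul.1 hd).elim hg hL19) hrm
  have hgk : g ^ k = g ^ i :=
    pow_eq_pow_iff_modEq.2 ((hkm.of_dvd (dvd_mul_right _ _)).trans hr1)
  have hk1 : k ≡ 1 [MOD L] := (hkm.of_dvd (dvd_mul_left _ _)).trans hr2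
  have hvk : v ^ k = v := by
    conv_rhs => rw [← pow_one v]
    exact pow_eq_pow_iff_modEq.2 (hk1.of_dvd (Nat.dvd_lcm_right _ _))
  have hkz : ∀ z ∈ Subgroup.center G, z ^ k = z := fun z hz => by
    conv_rhs => rw [← pow_one z]
    exact pow_eq_pow_iff_modEq.2
      (hk1.of_dvd ((Subgroup.orderOf_dvd_natCard _ hz).trans (Nat.dvd_lcm_left _ _)))
  rw [← hgk, show g ^ k * v = (g * v) ^ k by rw [hc.mul_pow, hvk]]
  refine pw_regular S hk hkz fun hd => ?_
  rcases hp.dvd_mul.1 ((hd.trans hc.orderOf_mul_dvd_lcm).trans (Nat.lcm_dvd_mul _ _)) with h1 | h1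
  · exact hg h1
  · exact hv h1

/-- The value at the elements of order 11. -/
theorem value_eleven (S : Sit h) {y : G} (hy : orderOf y = 11) : (ζ : G → ℂ) y = 5 := by
  classical
  haveI : Fact (Nat.Prime 11) := ⟨by norm_num⟩
  have hy11 : y ^ 11 = 1 := by rw [← hy, pow_orderOf_eq_one]
  have hVc : ∀ v ∈ (⊥ : Subgroup G), Commute y v := fun v hv => by
    rw [Subgroup.mem_bot.1 hv]; exact Commute.one_right y
  have hcon : ∀ i : ZMod 11, i ≠ 0 → ∀ v ∈ (⊥ : Subgroup G),
      (ζ : G → ℂ) (y ^ i.val * v) = (ζ : G → ℂ) (y * v) := by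
    intro i hi v hv
    obtain rfl := Subgroup.mem_bot.1 hv
    refine galois S (Commute.one_right y) ?_ ?_ (by rw [hy]; norm_num)
      (by rw [orderOf_one]; norm_num)
    · rw [hy, Nat.coprime_comm, (Fact.out : Nat.Prime 11).coprime_iff_not_dvd]
      intro hd
      exact hi (by rw [← ZMod.natCast_zmod_val i, (ZMod.natCast_eq_zero_iff _ _).2 hd])
    · rw [hy, (Fact.out : Nat.Prime 11).coprime_iff_not_dvd, orderOf_one, Nat.lcm_one_right]
      exact not_dvd_center_of_odd S (by norm_num) (by norm_num)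
  haveI := Fintype.ofFinite (⊥ : Subgroup G)
  obtain ⟨n, hn⟩ := Component.exists_mult hy11 ⊥ hVc (isCharacter_irr ζ) hcon 0
    (isCharacter_one (G := (⊥ : Subgroup G)))
  obtain ⟨k, hk⟩ := Component.exists_mult hy11 ⊥ hVc (isCharacter_irr ζ) hcon 1
    (isCharacter_one (G := (⊥ : Subgroup G)))
  have hone : ∀ f : G → ℂ, Cfsg.classInner (fun v : (⊥ : Subgroup G) => f v) 1 = f 1 := fun f => by
    rw [Cfsg.classInner, Fintype.sum_subsingleton _ (1 : (⊥ : Subgroup G)), Subgroup.card_bot]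
    simp
  simp only [if_pos, if_neg (one_ne_zero : (1 : ZMod 11) ≠ 0)] at hn hk
  rw [hone fun g => ((ζ : G → ℂ) g + ((11 : ℕ) - 1 : ℂ) * (ζ : G → ℂ) (y * g)) / (11 : ℕ)] at hn
  rw [hone fun g => ((ζ : G → ℂ) g + -1 * (ζ : G → ℂ) (y * g)) / (11 : ℕ)] at hk
  simp only [mul_one, apply_one_zeta, S.deg] at hn hk
  field_simp at hn hk
  push_cast at hn hk
  have h1 : ((n + 10 * k : ℕ) : ℂ) = ((16 : ℕ) : ℂ) := by
    push_cast
    linear_combination (-1 / 11 : ℂ) * hn + (-10 / 11 : ℂ) * hk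
  have h1' : n + 10 * k = 16 := Nat.cast_injective h1
  rcases Nat.eq_zero_or_pos k with hk0 | hk0
  · exfalso
    rw [hk0, Nat.cast_zero] at hk
    have h2 : (ζ : G → ℂ) y = (ζ : G → ℂ) 1 := by
      rw [apply_one_zeta, S.deg]
      push_cast
      linear_combination -hk
    rw [h.faith y h2, orderOf_one] at hy
    omega
  · obtain rfl : k = 1 := by omega
    push_cast at hk
    linear_combination -hk

theorem exp_coprime (S : Sit h) {g : G} {N : ℕ} (hg : orderOf g = N) (hN : N = 11 ∨ N = 121) :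
    N.Coprime (Nat.card (Subgroup.center G)) := by
  have h11 := (Nat.Prime.coprime_iff_not_dvd (by norm_num)).2
    (not_dvd_center_of_odd S (by norm_num : Nat.Prime 11) (by norm_num))
  rcases hN with rfl | rfl
  · exact h11
  · exact Nat.Coprime.pow_left 2 h11

/-- No element has order 121. -/
theorem no_121 (S : Sit h) {w : G} (hw : orderOf w = 121) : False := by
  classical
  have hp19 : ¬ 19 ∣ orderOf w := by rw [hw]; norm_num
  have hval : ∀ i : ℕ, ¬ 11 ∣ i → (ζ : G → ℂ) (w ^ i) = (ζ : G → ℂ) w := by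
    intro i hi
    have h1 := galois S (Commute.one_right w) (i := i) (v := 1)
      (by
        rw [hw, show (121 : ℕ) = 11 ^ 2 by norm_num]
        exact Nat.Coprime.pow_right 2 ((Nat.Prime.coprime_iff_not_dvd (by norm_num)).2 hi).symm)
      (by rw [hw, orderOf_one, Nat.lcm_one_right]; exact exp_coprime S hw (Or.inr rfl))
      hp19 (by rw [orderOf_one]; norm_num)
    simpa using h1
  have hω := Complex.isPrimitiveRoot_exp 121 (by norm_num)
  obtain ⟨n, hn⟩ := Component.exists_root_mult (w := w) (N := 121) (by norm_num)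
    (by rw [← hw, pow_orderOf_eq_one]) hω.pow_eq_one (isCharacter_irr ζ)
  set ω := Complex.exp (2 * Real.pi * Complex.I / (121 : ℕ)) with hωdef
  set c := (ζ : G → ℂ) w with hc
  have hterm : ∀ i ∈ Finset.range 121, ω ^ i * (ζ : G → ℂ) (w ^ i) =
      ω ^ i * c + (if 11 ∣ i then ω ^ i * (5 - c) else 0) + (if i = 0 then (11 : ℂ) else 0) := by
    intro i hi
    by_cases h0 : i = 0
    · subst h0
      rw [pow_zero, pow_zero, one_mul, one_mul, apply_one_zeta, S.deg, if_pos (dvd_zero 11),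
        if_pos rfl]
      push_cast
      ring
    rw [if_neg h0, add_zero]
    by_cases h11 : 11 ∣ i
    · rw [if_pos h11, value_eleven S]
      · ring
      · obtain ⟨j, rfl⟩ := h11
        rw [orderOf_pow, hw, show 121 = 11 * 11 by norm_num, Nat.gcd_mul_left]
        have : Nat.gcd 11 j = 1 := by
          refine (Nat.Prime.coprime_iff_not_dvd (by norm_num)).2 fun hd => ?_
          have := Finset.mem_range.1 hi
          obtain ⟨l, rfl⟩ := hd
          omega
        rw [this]
    · rw [if_neg h11, add_zero, hval i h11, hc]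
  rw [Finset.sum_congr rfl hterm, Finset.sum_add_distrib, Finset.sum_add_distrib,
    ← Finset.sum_mul, hω.geom_sum_eq_zero (by norm_num), Finset.sum_ite_eq',
    if_pos (Finset.mem_range.2 (by norm_num)), ← Finset.sum_filter,
    show (Finset.range 121).filter (11 ∣ ·) = (Finset.range 11).image (11 * ·) by
      ext i
      simp only [Finset.mem_filter, Finset.mem_range, Finset.mem_image]
      constructor
      · rintro ⟨hi, j, rfl⟩
        exact ⟨j, by omega, rfl⟩
      · rintro ⟨j, hj, rfl⟩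
        exact ⟨by omega, dvd_mul_right _ _⟩,
    Finset.sum_image fun a _ b _ e => Nat.eq_of_mul_eq_mul_left (by norm_num) e,
    ← Finset.sum_mul, Finset.sum_congr rfl fun j _ => pow_mul ω 11 j,
    (hω.pow (by norm_num) (show 121 = 11 * 11 by norm_num)).geom_sum_eq_zero (by norm_num)] at hn
  have h2 : ((121 * n : ℕ) : ℂ) = ((11 : ℕ) : ℂ) := by push_cast at hn ⊢; linear_combination -hn
  have := Nat.cast_injective h2
  omega

/-- A Sylow 11-subgroup has order at most 11. -/
theorem not_sq_dvd (S : Sit h) : ¬ 11 ^ 2 ∣ Nat.card G := by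
  classical
  intro hd
  haveI : Fact (Nat.Prime 11) := ⟨by norm_num⟩
  obtain ⟨Q, hQ⟩ := Sylow.exists_subgroup_card_pow_prime 11 hd
  haveI := Fintype.ofFinite Q
  obtain ⟨n, hn⟩ := exists_classInner_nat (isCharacter_comp Q.subtype (isCharacter_irr ζ))
    (isCharacter_one (G := Q))
  have hterm : ∀ g : Q, (ζ : G → ℂ) g = 5 + if g = 1 then (11 : ℂ) else 0 := by
    intro g
    by_cases hg : g = 1
    · subst hg
      rw [OneMemClass.coe_one, apply_one_zeta, S.deg, if_pos rfl]
      norm_num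
    rw [if_neg hg, add_zero]
    refine value_eleven S ?_
    obtain ⟨j, hj, hjo⟩ := (Nat.dvd_prime_pow (by norm_num : Nat.Prime 11)).1
      (hQ ▸ Subgroup.orderOf_dvd_natCard Q g.2)
    interval_cases j
    · exact absurd (Subtype.ext (orderOf_eq_one_iff.1 hjo)) hg
    · simpa using hjo
    · exact (no_121 S (by rw [hjo]; norm_num)).elim
  simp only [Cfsg.classInner, Function.comp_apply, Pi.one_apply, map_one, mul_one,
    Subgroup.coe_subtype, hterm, Finset.sum_add_distrib, Finset.sum_const, Finset.sum_ite_eq',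
    Finset.mem_univ, if_true, Finset.card_univ, ← Nat.card_eq_fintype_card, hQ,
    nsmul_eq_mul] at hn
  field_simp at hn
  have h2 : ((616 : ℕ) : ℂ) = ((121 * n : ℕ) : ℂ) := by push_cast at hn ⊢; linear_combination hn
  have := Nat.cast_injective h2
  omega

/-- A regular element commuting with an element of order 11. -/
theorem regular_of_commute (S : Sit h) {y v : G} (hy : orderOf y = 11) (hc : Commute y v) :
    ¬ 19 ∣ orderOf v := by
  intro hd
  obtain ⟨-, b, -, hb⟩ := DegSubTwo.Reduction.exists_conj_eq h.ord h.sq ⊤ (Subgroup.mem_top x)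
    (v ^ (orderOf v / 19)) (orderOf_pow_orderOf_div (orderOf_pos v).ne' hd)
  have hne : b * v ^ (orderOf v / 19) * b⁻¹ ≠ 1 := fun h1 => by
    rw [conj_eq_one_iff] at h1
    have := orderOf_pow_orderOf_div (orderOf_pos v).ne' hd
    rw [h1, orderOf_one] at this
    omega
  have hzp : Subgroup.zpowers (b * v ^ (orderOf v / 19) * b⁻¹) = Subgroup.zpowers x :=
    Subgroup.eq_of_le_of_card_ge (Subgroup.zpowers_le.2 hb) (by
      rw [Nat.card_zpowers, Nat.card_zpowers, h.ord, ← MulAut.conj_apply, MulEquiv.orderOf_eq,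
        orderOf_pow_orderOf_div (orderOf_pos v).ne' hd])
  obtain ⟨j, hj⟩ := (hzp ▸ Subgroup.mem_zpowers x :
    x ∈ Subgroup.zpowers (b * v ^ (orderOf v / 19) * b⁻¹))
  have hcx : Commute (b * y * b⁻¹) x := by
    rw [← hj]
    refine Commute.zpow_right ?_ j
    rw [← MulAut.conj_apply, ← MulAut.conj_apply]
    exact (hc.pow_right _).map (MulAut.conj b).toMonoidHom
  have h1 := Subgroup.orderOf_dvd_natCard _
    (Subgroup.mem_centralizer_singleton_iff.2 hcx.eq : b * y * b⁻¹ ∈ Subgroup.centralizer {x})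
  rw [card_centralizer_x h, ← MulAut.conj_apply, MulEquiv.orderOf_eq, hy] at h1
  rcases (Nat.Prime.dvd_mul (by norm_num)).1 h1 with h2 | h2
  · norm_num at h2
  · exact not_dvd_center_of_odd S (by norm_num) (by norm_num) h2

/-- The centralizer of an element of order 11 as a product. -/
theorem exists_complement (S : Sit h) {y : G} (hy : orderOf y = 11) :
    ∃ V : Subgroup G, (∀ v ∈ V, Commute y v) ∧ (Nat.card V).Coprime 11 ∧
      ∀ g : G, Commute y g → ∃ i : ℕ, ∃ v ∈ V, g = y ^ i * v := by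
  set C := Subgroup.centralizer ({y} : Set G) with hC
  have hyC : y ∈ C := Subgroup.mem_centralizer_singleton_iff.2 rfl
  set Hn : Subgroup C := Subgroup.zpowers (⟨y, hyC⟩ : C) with hHn
  haveI : Hn.Normal := ⟨fun n hn g => by
    obtain ⟨i, rfl⟩ := hn
    have : Commute g (⟨y, hyC⟩ : C) := Subtype.ext (Subgroup.mem_centralizer_singleton_iff.1 g.2)
    rw [(this.zpow_right i).eq, mul_inv_cancel_right]
    exact Subgroup.zpow_mem_zpowers _ i⟩
  have hH : Nat.card Hn = 11 := by rw [hHn, Nat.card_zpowers, Subgroup.orderOf_mk, hy]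
  have hidx : (Hn.index).Coprime 11 := by
    rw [Nat.coprime_comm, Nat.Prime.coprime_iff_not_dvd (by norm_num)]
    intro hd
    refine not_sq_dvd S (dvd_trans ?_ (Subgroup.card_subgroup_dvd_card C))
    rw [← Subgroup.card_mul_index Hn, hH, sq]
    exact mul_dvd_mul_left _ hd
  obtain ⟨K, hK⟩ := Subgroup.exists_right_complement'_of_coprime (N := Hn)
    (by rw [hH]; exact hidx.symm)
  refine ⟨K.map C.subtype, ?_, ?_, fun g hg => ?_⟩
  · rintro _ ⟨k, -, rfl⟩
    exact (Subgroup.mem_centralizer_singleton_iff.1 k.2).symm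
  · rw [Subgroup.card_map_of_injective C.subtype_injective]
    have h1 := hK.card_mul_card
    rw [← Subgroup.card_mul_index Hn] at h1
    rw [Nat.eq_of_mul_eq_mul_left (by rw [hH]; norm_num) h1]
    exact hidx
  · obtain ⟨⟨⟨a, ha⟩, ⟨b, hb⟩⟩, hab⟩ :=
      hK.2 ⟨g, Subgroup.mem_centralizer_singleton_iff.2 hg.eq.symm⟩
    obtain ⟨i, hi⟩ := (mem_powers_iff_mem_zpowers.2 ha :
      a ∈ Submonoid.powers (⟨y, hyC⟩ : C))
    refine ⟨i, b, ⟨b, hb, rfl⟩, ?_⟩
    have h1 := congrArg Subtype.val hab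
    have h2 : y ^ i = (a : G) := congrArg Subtype.val hi
    rw [h2]
    exact h1.symm

open scoped Classical in
/-- The column orthogonality on `y V`. -/
theorem parseval (_S : Sit h) {y : G} (hy : orderOf y = 11) {V : Subgroup G} [Fintype V]
    (hVc : ∀ v ∈ V, Commute y v) (hV : (Nat.card V).Coprime 11)
    (hdec : ∀ g : G, Commute y g → ∃ i : ℕ, ∃ v ∈ V, g = y ^ i * v)
    (ψ : Cfsg.IrrCharacter V) :
    ∑ χ : Cfsg.IrrCharacter G,
      Cfsg.classInner (fun v : V => (χ : G → ℂ) (y * v)) (ψ : V → ℂ) *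
        conj (Cfsg.classInner (fun v : V => (χ : G → ℂ) (y * v)) (ψ : V → ℂ)) = 11 := by
  classical
  haveI : Fact (Nat.Prime 11) := ⟨by norm_num⟩
  haveI := Fintype.ofFinite G
  have hy11 : y ^ 11 = 1 := by rw [← hy, pow_orderOf_eq_one]
  set φ := Component.prodHom hy11 V hVc with hφ
  have hφv : ∀ a, φ a = y ^ (Multiplicative.toAdd a.1).val * (a.2 : G) := fun a => rfl
  have hinj : Function.Injective φ := by
    refine (injective_iff_map_eq_one φ).2 fun a ha => ?_
    rw [hφv] at ha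
    have hv : (a.2 : G) = (y ^ (Multiplicative.toAdd a.1).val)⁻¹ := eq_inv_of_mul_eq_one_right ha
    have h1 : orderOf (a.2 : G) ∣ 11 := by
      rw [hv, orderOf_inv]
      exact (orderOf_pow_dvd _).trans (dvd_of_eq hy)
    have h2 : orderOf (a.2 : G) ∣ Nat.card V := Subgroup.orderOf_dvd_natCard V a.2.2
    have h3 : (a.2 : G) = 1 := orderOf_eq_one_iff.1 (Nat.eq_one_of_dvd_coprimes hV h2 h1)
    rw [h3, mul_one] at ha
    refine Prod.ext (Multiplicative.toAdd.injective ?_) (Subtype.ext h3)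
    rw [Prod.fst_one, toAdd_one]
    exact pow_val_inj hy (ha.trans (by simp))
  have hcount : ∀ v w : V, ∑ g : G, (if g * (y * v) * g⁻¹ = y * w then (1 : ℂ) else 0) =
      11 * ∑ t : V, if t * v * t⁻¹ = w then (1 : ℂ) else 0 := by
    intro v w
    have hrange : ∀ g : G, g ∉ Set.range φ →
        (if g * (y * v) * g⁻¹ = y * w then (1 : ℂ) else 0) = 0 := by
      intro g hg
      rw [if_neg fun he => hg ?_]
      obtain ⟨k, hk1, hk0⟩ := Nat.chineseRemainder hV.symm 1 0
      have hk : ∀ u : V, (y * (u : G)) ^ k = y := fun u => by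
        have h2 : (u : G) ^ k = 1 := orderOf_dvd_iff_pow_eq_one.1
          ((Subgroup.orderOf_dvd_natCard V u.2).trans (Nat.modEq_zero_iff_dvd.1 hk0))
        rw [(hVc u u.2).mul_pow, h2, mul_one]
        conv_rhs => rw [← pow_one y]
        exact pow_eq_pow_iff_modEq.2 (hy.symm ▸ hk1)
      have h2 := congrArg (fun e => e ^ k) he
      simp only [conj_pow, hk] at h2
      obtain ⟨i, u, hu, rfl⟩ := hdec g (by
        show y * g = g * y
        rw [mul_inv_eq_iff_eq_mul] at h2
        exact h2.symm)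
      exact ⟨(Multiplicative.ofAdd (i : ZMod 11), ⟨u, hu⟩), by
        rw [hφv]; simp only [toAdd_ofAdd, pow_val_natCast hy11]⟩
    rw [← Fintype.sum_of_injective φ hinj
      (fun a : Multiplicative (ZMod 11) × V => if a.2 * v * a.2⁻¹ = w then (1 : ℂ) else 0) _ hrange
      fun a => ?_, Fintype.sum_prod_type]
    · norm_num
    · refine if_congr ?_ rfl rfl
      rw [hφv]
      set m := (Multiplicative.toAdd a.1).val
      have hyt : Commute y ((a.2 : G) * v * (a.2 : G)⁻¹) :=
        hVc _ (mul_mem (mul_mem a.2.2 v.2) (inv_mem a.2.2))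
      have h1 : y ^ m * (a.2 : G) * (y * v) * (y ^ m * (a.2 : G))⁻¹ =
          y * ((a.2 : G) * v * (a.2 : G)⁻¹) := by
        calc _ = y ^ m * ((a.2 : G) * y) * v * (a.2 : G)⁻¹ * (y ^ m)⁻¹ := by group
          _ = y ^ m * (y * (a.2 : G)) * v * (a.2 : G)⁻¹ * (y ^ m)⁻¹ := by rw [(hVc a.2 a.2.2).eq]
          _ = y ^ m * (y * ((a.2 : G) * v * (a.2 : G)⁻¹)) * (y ^ m)⁻¹ := by group
          _ = _ := by
            rw [(((Commute.refl y).mul_right hyt).pow_left m).eq, mul_inv_cancel_right]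
      rw [h1, mul_left_cancel_iff, Subtype.ext_iff]
      simp only [Subgroup.coe_mul, InvMemClass.coe_inv]
  have hnorm := classInner_self_irr ψ
  simp only [Cfsg.classInner] at hnorm ⊢
  set c : ℂ := (Nat.card V : ℂ)⁻¹ with hc
  have hcc : conj c = c := by rw [hc, map_inv₀, map_natCast]
  calc ∑ χ : Cfsg.IrrCharacter G, c * (∑ v : V, (χ : G → ℂ) (y * v) * conj ((ψ : V → ℂ) v)) *
        conj (c * ∑ v : V, (χ : G → ℂ) (y * v) * conj ((ψ : V → ℂ) v))
      = c * c * ∑ χ : Cfsg.IrrCharacter G, ∑ v : V, ∑ w : V,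
          (conj ((ψ : V → ℂ) v) * (ψ : V → ℂ) w) *
            ((χ : G → ℂ) (y * v) * conj ((χ : G → ℂ) (y * w))) := by
        rw [Finset.mul_sum (a := c * c)]
        refine Finset.sum_congr rfl fun χ _ => ?_
        rw [map_mul, hcc, mul_mul_mul_comm, map_sum, Finset.sum_mul_sum]
        congr 1
        refine Finset.sum_congr rfl fun v _ => Finset.sum_congr rfl fun w _ => ?_
        rw [map_mul, Complex.conj_conj]
        ring
    _ = c * c * ∑ v : V, ∑ t : V, 11 * (conj ((ψ : V → ℂ) v) * (ψ : V → ℂ) (t * v * t⁻¹)) := by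
        rw [Finset.sum_comm]
        congr 1
        refine Finset.sum_congr rfl fun v _ => ?_
        rw [Finset.sum_comm]
        simp only [← Finset.mul_sum, Component.sum_irr_count, hcount]
        simp only [Finset.mul_sum, mul_ite, mul_one, mul_zero]
        rw [Finset.sum_comm]
        refine Finset.sum_congr rfl fun t _ => ?_
        rw [Finset.sum_ite_eq, if_pos (Finset.mem_univ _)]
        ring
    _ = (11 : ℂ) * (c * ∑ v : V, (ψ : V → ℂ) v * conj ((ψ : V → ℂ) v)) := by
        simp only [isClassFunction_irr ψ _ _, Finset.sum_const, Finset.card_univ, nsmul_eq_mul,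
          Finset.mul_sum]
        refine Finset.sum_congr rfl fun v _ => ?_
        rw [hc, Nat.card_eq_fintype_card]
        have : (Fintype.card V : ℂ) ≠ 0 := Nat.cast_ne_zero.2 Fintype.card_ne_zero
        field_simp
    _ = 11 := by rw [hnorm, mul_one]

open scoped Classical in
/-- A coefficient on `y V` is at most one. -/
theorem coef_le (S : Sit h) {y : G} (hy : orderOf y = 11) {V : Subgroup G} [Fintype V]
    (hVc : ∀ v ∈ V, Commute y v) (hV : (Nat.card V).Coprime 11)
    (hdec : ∀ g : G, Commute y g → ∃ i : ℕ, ∃ v ∈ V, g = y ^ i * v)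
    (ψ : Cfsg.IrrCharacter V) {a : ℤ}
    (ha : Cfsg.classInner (fun v : V => (ζ : G → ℂ) (y * v)) (ψ : V → ℂ) = a) :
    6 * (a * a) ≤ 11 := by
  classical
  obtain ⟨Y, δ, F⟩ := exists_family h S.std.three ζ
  obtain ⟨b, hb⟩ := Fintype.exists_ne_of_one_lt_card
    (show 1 < Fintype.card (Cls h) by rw [S.t_eq]; norm_num) (1 : Cls h)
  obtain ⟨κ₀, hκ₀⟩ := (F.rest ζ (self_mem_slice h ζ)).resolve_right fun hc => by
    have := hc b 1
    simp [S.std.val, hb] at this
  have hyreg : ∀ v : V, ¬ 19 ∣ orderOf (y * (v : G)) := fun v =>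
    regular_of_commute S hy ((Commute.refl y).mul_right (hVc v v.2))
  have hsame : ∀ κ, Cfsg.classInner (fun v : V => (Y κ : G → ℂ) (y * v)) (ψ : V → ℂ) = a := by
    intro κ
    rw [← ha]
    congr 1
    funext v
    rw [F.reg κ _ (hyreg v), ← F.reg κ₀ _ (hyreg v),
      congrArg (fun χ : Cfsg.IrrCharacter G => (χ : G → ℂ) (y * v)) hκ₀]
  have hp := parseval S hy hVc hV hdec ψ
  simp only [Complex.mul_conj, ← Complex.ofReal_sum] at hp
  have hp' : ∑ χ : Cfsg.IrrCharacter G, Complex.normSq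
      (Cfsg.classInner (fun v : V => (χ : G → ℂ) (y * v)) (ψ : V → ℂ)) = 11 := by
    exact_mod_cast hp
  have hle := Finset.sum_le_univ_sum_of_nonneg (s := Finset.univ.image Y)
    (f := fun χ : Cfsg.IrrCharacter G => Complex.normSq
      (Cfsg.classInner (fun v : V => (χ : G → ℂ) (y * v)) (ψ : V → ℂ)))
    fun _ => Complex.normSq_nonneg _
  rw [hp', Finset.sum_image fun u _ w _ e => F.inj e] at hle
  simp only [hsame, Complex.normSq_intCast, Finset.sum_const, Finset.card_univ, S.t_eq,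
    nsmul_eq_mul] at hle
  exact_mod_cast hle

set_option maxHeartbeats 800000 in
/-- The contradiction. -/
theorem contradiction (S : Sit h) : False := by
  classical
  haveI : Fact (Nat.Prime 11) := ⟨by norm_num⟩
  obtain ⟨Yc, R, hD, hYz, hYker, hR, hthree⟩ := Principal.exists_three S
  have h22 : 22 ∣ Nat.card G := hD ▸ BlocksChars5.Basic.degree_dvd_card Yc
  have h11 : 11 ∣ Nat.card G := (show 11 ∣ 22 by norm_num).trans h22
  obtain ⟨y, hy⟩ := exists_prime_orderOf_dvd_card' 11 h11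
  have hy11 : y ^ 11 = 1 := by rw [← hy, pow_orderOf_eq_one]
  obtain ⟨V, hVc, hVcop, hdec⟩ := exists_complement S hy
  haveI := Fintype.ofFinite V
  have hreg : ∀ v ∈ V, ¬ 19 ∣ orderOf v := fun v hv => regular_of_commute S hy (hVc v hv)
  have hregy : ∀ (i : ℕ), ∀ v ∈ V, ¬ 19 ∣ orderOf (y ^ i * v) := fun i v hv =>
    regular_of_commute S hy (((Commute.refl y).pow_right i).mul_right (hVc v hv))
  have hcop : ∀ i : ZMod 11, i ≠ 0 → i.val.Coprime 11 := fun i hi => by
    rw [Nat.coprime_comm, (Fact.out : Nat.Prime 11).coprime_iff_not_dvd]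
    intro hd
    exact hi (by rw [← ZMod.natCast_zmod_val i, (ZMod.natCast_eq_zero_iff _ _).2 hd])
  have hζc : ∀ i : ZMod 11, i ≠ 0 → ∀ v ∈ V,
      (ζ : G → ℂ) (y ^ i.val * v) = (ζ : G → ℂ) (y * v) := by
    intro i hi v hv
    refine galois S (hVc v hv) (by rw [hy]; exact hcop i hi) ?_ (by rw [hy]; norm_num) (hreg v hv)
    rw [hy, (Fact.out : Nat.Prime 11).coprime_iff_not_dvd]
    intro hd
    rcases (Fact.out : Nat.Prime 11).dvd_mul.1 (hd.trans (Nat.lcm_dvd_mul _ _)) with h1 | h1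
    · exact not_dvd_center_of_odd S (by norm_num) (by norm_num) h1
    · exact ((Fact.out : Nat.Prime 11).coprime_iff_not_dvd.1 hVcop.symm)
        (h1.trans (Subgroup.orderOf_dvd_natCard V hv))
  have hzero : ∀ (i : ℕ), i.Coprime 11 → ∀ v ∈ V, (Yc : G → ℂ) (y ^ i * v) = 0 := by
    intro i hi v hv
    have hr : ¬ 11 ∣ Nat.card G / 11 := fun hd => not_sq_dvd S (by
      rw [sq, ← Nat.mul_div_cancel' h11]
      exact mul_dvd_mul_left _ hd)
    refine Characters.DefectZero.apply_eq_zero (p := 11) (n := 1) (e := 2) (by norm_num) Yc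
      (r := Nat.card G / 11) (by rw [pow_one, Nat.mul_div_cancel' h11]) hr ?_ ?_
    · rw [apply_one_zeta, hD]
      norm_num
    · have ho : orderOf (y ^ i) = 11 := by
        rw [Nat.Coprime.orderOf_pow (by rw [hy]; exact hi.symm), hy]
      rw [((hVc v hv).pow_left i).orderOf_mul_eq_mul_orderOf_of_coprime (by
        rw [ho]
        exact hVcop.symm.coprime_dvd_right (Subgroup.orderOf_dvd_natCard V hv)), ho]
      exact dvd_mul_right _ _
  -- the functions on `V`
  let f : V → ℂ := fun v => (ζ : G → ℂ) (y * v)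
  let μ : V → ℂ := fun v => ((ζ : G → ℂ) v - f v) / 11
  let W : V → ℂ := fun v => f v + μ v
  have hμn : ∀ ψ : Cfsg.IrrCharacter V, ∃ n : ℕ, Cfsg.classInner μ (ψ : V → ℂ) = n := by
    intro ψ
    obtain ⟨n, hn⟩ := Component.exists_mult hy11 V hVc (isCharacter_irr ζ) hζc 1 (isCharacter_irr ψ)
    refine ⟨n, Eq.trans ?_ hn⟩
    congr 1
    funext v
    simp only [μ, f, if_neg (one_ne_zero : (1 : ZMod 11) ≠ 0)]
    push_cast
    ring
  have hWn : ∀ ψ : Cfsg.IrrCharacter V, ∃ n : ℕ, Cfsg.classInner W (ψ : V → ℂ) = n := by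
    intro ψ
    obtain ⟨n, hn⟩ := Component.exists_mult hy11 V hVc (isCharacter_irr ζ) hζc 0 (isCharacter_irr ψ)
    refine ⟨n, Eq.trans ?_ hn⟩
    congr 1
    funext v
    simp only [W, μ, f, if_pos]
    push_cast
    ring
  choose n hn using hμn
  choose n' hn' using hWn
  have hfcl : Cfsg.IsClassFunction V f := by
    intro v t
    simp only [f, Subgroup.coe_mul, InvMemClass.coe_inv]
    rw [← isClassFunction_irr ζ (y * v) t]
    rw [← mul_assoc, ← mul_assoc, ← mul_assoc, (hVc t t.2).eq]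
  have hζcl : Cfsg.IsClassFunction V fun v : V => (ζ : G → ℂ) v := fun v t => by
    simp only [Subgroup.coe_mul, InvMemClass.coe_inv]
    exact isClassFunction_irr ζ _ _
  have hμcl : Cfsg.IsClassFunction V μ := fun v t => by
    simp only [μ]
    rw [hfcl v t, show (ζ : G → ℂ) ((t * v * t⁻¹ : V) : G) = (ζ : G → ℂ) v from hζcl v t]
  have hμ1 : μ 1 = 1 := by
    simp only [μ, f, OneMemClass.coe_one, mul_one, value_eleven S hy, apply_one_zeta, S.deg]
    norm_num
  have hμexp : ∀ v, μ v = ∑ ψ : Cfsg.IrrCharacter V, (n ψ : ℂ) * (ψ : V → ℂ) v := fun v => by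
    have h1 := congrFun (Characters.Complete.classFunction_eq_sum hμcl) v
    simp only [Finset.sum_apply, Pi.smul_apply, smul_eq_mul, hn] at h1
    exact h1
  have hsum : ∑ ψ : Cfsg.IrrCharacter V, n ψ * Cfsg.charDegree (ψ : V → ℂ) = 1 := by
    have h1 := hμexp 1
    rw [hμ1] at h1
    simp only [apply_one_zeta] at h1
    exact_mod_cast h1.symm
  obtain ⟨ψ₀, -, hψ₀⟩ : ∃ ψ ∈ Finset.univ, n ψ * Cfsg.charDegree (ψ : V → ℂ) ≠ 0 :=
    Finset.exists_ne_zero_of_sum_ne_zero (by rw [hsum]; norm_num)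
  rw [← Finset.add_sum_erase _ _ (Finset.mem_univ ψ₀)] at hsum
  have hψ₀1 : n ψ₀ * Cfsg.charDegree (ψ₀ : V → ℂ) = 1 := by omega
  have hoff : ∀ ψ, ψ ≠ ψ₀ → n ψ = 0 := fun ψ hψ => by
    have h1 : n ψ * Cfsg.charDegree (ψ : V → ℂ) = 0 :=
      (Finset.sum_eq_zero_iff.1 (by omega : ∑ φ ∈ Finset.univ.erase ψ₀,
        n φ * Cfsg.charDegree (φ : V → ℂ) = 0)) ψ (Finset.mem_erase.2 ⟨hψ, Finset.mem_univ _⟩)
    exact (Nat.mul_eq_zero.1 h1).resolve_right (BlocksChars5.Basic.degree_pos ψ).ne'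
  obtain ⟨hn0, hd0⟩ := mul_eq_one.1 hψ₀1
  have hμψ : ∀ v, μ v = (ψ₀ : V → ℂ) v := fun v => by
    rw [hμexp, Finset.sum_eq_single ψ₀ (fun ψ _ hψ => by rw [hoff ψ hψ, Nat.cast_zero, zero_mul])
      (by simp), hn0, Nat.cast_one, one_mul]
  have hψ₀one : (ψ₀ : V → ℂ) 1 = 1 := by rw [apply_one_zeta, hd0, Nat.cast_one]
  have ha : ∀ ψ : Cfsg.IrrCharacter V,
      Cfsg.classInner f (ψ : V → ℂ) = (((n' ψ : ℤ) - n ψ : ℤ) : ℂ) := by
    intro ψ
    push_cast
    rw [← hn', ← hn, ← classInner_sub_left]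
    congr 1
    funext v
    simp only [W, Pi.sub_apply]
    ring
  have hle : ∀ ψ, ψ ≠ ψ₀ → n' ψ ≤ 1 := by
    intro ψ hψ
    have h1 := coef_le S hy hVc hVcop hdec ψ (ha ψ)
    rw [hoff ψ hψ, Nat.cast_zero, sub_zero] at h1
    by_contra hc
    have h2 : (2 : ℤ) ≤ n' ψ := by exact_mod_cast (by omega : 2 ≤ n' ψ)
    nlinarith
  -- the products with the linear character
  let tw : Cfsg.IrrCharacter V → Cfsg.IrrCharacter V := fun ψ =>
    ⟨(ψ₀ : V → ℂ) * (ψ : V → ℂ),
      Characters.Linear.isIrrCharacter_linear_mul (isCharacter_irr ψ₀) hψ₀one ψ.2⟩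
  have hψ₀u : ∀ v : V, (ψ₀ : V → ℂ) v * conj ((ψ₀ : V → ℂ) v) = 1 := fun v => by
    rw [← apply_inv (isCharacter_irr ψ₀),
      ← Characters.Linear.apply_mul_of_degree_one (isCharacter_irr ψ₀) hψ₀one, mul_inv_cancel,
      hψ₀one]
  have htw : ∀ ψ, ψ ≠ oneChar V → tw ψ ≠ ψ₀ := by
    intro ψ hψ he
    refine hψ (Subtype.ext (funext fun v => ?_))
    have h1 : (ψ₀ : V → ℂ) v * (ψ : V → ℂ) v = (ψ₀ : V → ℂ) v :=
      congrArg (fun F : Cfsg.IrrCharacter V => (F : V → ℂ) v) he
    calc (ψ : V → ℂ) v = ((ψ₀ : V → ℂ) v * conj ((ψ₀ : V → ℂ) v)) * (ψ : V → ℂ) v := by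
          rw [hψ₀u, one_mul]
      _ = conj ((ψ₀ : V → ℂ) v) * ((ψ₀ : V → ℂ) v * (ψ : V → ℂ) v) := by ring
      _ = (ψ₀ : V → ℂ) v * conj ((ψ₀ : V → ℂ) v) := by rw [h1]; ring
      _ = _ := by rw [hψ₀u, oneChar_apply]
  -- the exceptional character is trivial on `V`
  have hYV : ∀ ψ : Cfsg.IrrCharacter V, ψ ≠ oneChar V →
      Cfsg.classInner (fun v : V => (Yc : G → ℂ) v) (ψ : V → ℂ) = 0 := by
    intro ψ hψ
    obtain ⟨m, hm⟩ := Component.exists_mult hy11 V hVc (isCharacter_irr Yc)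
      (fun i hi v hv => by
        rw [hzero _ (hcop i hi) v hv]
        have := hzero 1 (by norm_num) v hv
        rw [pow_one] at this
        rw [this]) 1 (isCharacter_irr ψ)
    have hFc : ∀ i : ZMod 11, i ≠ 0 → ∀ v ∈ V, R (y ^ i.val * v) = R (y * v) := by
      intro i hi v hv
      have h1 := hthree _ (hregy i.val v hv)
      have h2 := hthree (y * v) (by simpa using hregy 1 v hv)
      rw [hζc i hi v hv, hzero _ (hcop i hi) v hv] at h1
      rw [show (Yc : G → ℂ) (y * v) = 0 by simpa using hzero 1 (by norm_num) v hv] at h2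
      linear_combination h2 - h1
    obtain ⟨r, hr⟩ := Component.exists_mult hy11 V hVc hR hFc 1 (isCharacter_irr ψ)
    simp only [if_neg (one_ne_zero : (1 : ZMod 11) ≠ 0)] at hm hr
    let ψb := Characters.Linear.conjChar ψ
    have hψb : ψb ≠ oneChar V := fun he => hψ (by
      rw [← Characters.Linear.conjChar_conjChar ψ]
      refine Subtype.ext (funext fun v => ?_)
      rw [Characters.Linear.conjChar_apply]
      show conj ((ψb : V → ℂ) v) = (oneChar V : V → ℂ) v
      rw [he, oneChar_apply, map_one])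
    have h3 : (3 : ℂ) * m + r = (n' (tw ψ) : ℂ) + n' (tw ψb) := by
      rw [← hm, ← hr, ← hn' (tw ψ), ← Complex.conj_natCast (n' (tw ψb)), ← hn' (tw ψb)]
      have h0 : Cfsg.classInner (fun _ : V => (1 : ℂ)) (ψ : V → ℂ) = 0 :=
        classInner_irr_of_ne (χ := oneChar V) (ψ := ψ) hψ.symm
      have h4 : ∀ v : V, 3 * (((Yc : G → ℂ) v + -1 * (Yc : G → ℂ) (y * v)) / (11 : ℕ)) +
          (R v + -1 * R (y * v)) / (11 : ℕ) =
          W v * conj ((ψ₀ : V → ℂ) v) + (ψ₀ : V → ℂ) v * conj (W v) + 9 := by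
        intro v
        have h5 := hthree v (hreg v v.2)
        have h6 := hthree (y * v) (by simpa using hregy 1 v v.2)
        have hζv : (ζ : G → ℂ) v = f v + 11 * (ψ₀ : V → ℂ) v := by
          rw [← hμψ]; simp only [μ]; ring
        have hWv : W v = f v + (ψ₀ : V → ℂ) v := by rw [← hμψ]
        rw [hζv] at h5
        rw [show (ζ : G → ℂ) (y * v) = f v from rfl] at h6
        rw [hWv]
        simp only [map_add, map_mul, map_ofNat] at h5 ⊢
        push_cast
        linear_combination (-1 / 11 : ℂ) * h5 + (1 / 11 : ℂ) * h6 + 9 * hψ₀u v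
      simp only [Cfsg.classInner] at h0 ⊢
      rw [map_mul, map_inv₀, map_natCast, map_sum]
      rw [mul_left_comm (3 : ℂ), Finset.mul_sum (a := (3 : ℂ)), ← mul_add, ← mul_add,
        ← Finset.sum_add_distrib, ← Finset.sum_add_distrib]
      calc (Nat.card V : ℂ)⁻¹ * _ = (Nat.card V : ℂ)⁻¹ * ∑ v : V,
            ((W v * conj ((ψ₀ : V → ℂ) v) + (ψ₀ : V → ℂ) v * conj (W v)) * conj ((ψ : V → ℂ) v) +
              9 * (1 * conj ((ψ : V → ℂ) v))) := by
            refine congrArg _ (Finset.sum_congr rfl fun v _ => ?_)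
            linear_combination conj ((ψ : V → ℂ) v) * h4 v
        _ = _ := by
            rw [Finset.sum_add_distrib, mul_add, ← Finset.mul_sum (a := (9 : ℂ)),
              mul_left_comm _ (9 : ℂ), h0, mul_zero, add_zero]
            refine congrArg _ (Finset.sum_congr rfl fun v _ => ?_)
            simp only [tw, ψb, Pi.mul_apply, map_mul, Characters.Linear.conjChar_apply,
              Complex.conj_conj]
            ring
    have h5 : ((3 * m + r : ℕ) : ℂ) = ((n' (tw ψ) + n' (tw ψb) : ℕ) : ℂ) := by push_cast; exact h3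
    have h6 := Nat.cast_injective h5
    have := hle _ (htw ψ hψ)
    have := hle _ (htw ψb hψb)
    obtain rfl : m = 0 := by omega
    simp only [Nat.cast_zero] at hm
    rw [← mul_zero (11 : ℂ), ← hm, ← classInner_smul_left]
    congr 1
    funext v
    simp only [Pi.smul_apply, smul_eq_mul]
    rw [show (Yc : G → ℂ) (y * v) = 0 by simpa using hzero 1 (by norm_num) v v.2]
    push_cast
    ring
  have hVZ : ∀ v ∈ V, v ∈ Subgroup.center G := by
    intro v hv
    refine hYker v ?_
    have hcl : Cfsg.IsClassFunction V fun w : V => (Yc : G → ℂ) w := fun w t => by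
      simp only [Subgroup.coe_mul, InvMemClass.coe_inv]
      exact isClassFunction_irr Yc _ _
    have hall : ∀ w : V, (Yc : G → ℂ) w =
        Cfsg.classInner (fun w : V => (Yc : G → ℂ) w) (oneChar V : V → ℂ) := by
      intro w
      have h1 := congrFun (Characters.Complete.classFunction_eq_sum hcl) w
      simp only [Finset.sum_apply, Pi.smul_apply, smul_eq_mul] at h1
      rw [h1, Finset.sum_eq_single (oneChar V) (fun ψ _ hψ => by rw [hYV ψ hψ, zero_mul]) (by simp),
        oneChar_apply, mul_one]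
    exact (hall ⟨v, hv⟩).trans (hall 1).symm
  -- the final count
  have hf5 : ∀ v : V, f v = 5 * (ψ₀ : V → ℂ) v := by
    intro v
    rw [← hμψ]
    have h1 : (ζ : G → ℂ) (y * v) = lam ζ v * 5 := by
      rw [apply_mul_central ζ (hVZ v v.2), value_eleven S hy]
    have h2 : (ζ : G → ℂ) v = lam ζ v * 16 := by
      have := apply_mul_central ζ (hVZ v v.2) (1 : G)
      rw [one_mul, apply_one_zeta, S.deg] at this
      exact this
    simp only [μ, f, h1, h2]
    ring
  have h5 : Cfsg.classInner f (ψ₀ : V → ℂ) = ((5 : ℤ) : ℂ) := by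
    rw [show f = (5 : ℂ) • (ψ₀ : V → ℂ) from funext fun v => by
      simp [hf5, Pi.smul_apply], classInner_smul_left, classInner_self_irr]
    norm_num
  have := coef_le S hy hVc hVcop hdec ψ₀ (a := 5) h5
  norm_num at this

end Cfsg.Agent.Lib.Sixteen80.Eleven
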