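import Cfsg.Agent.Lib.FirstPower.Average
import Cfsg.Agent.Lib.FirstPower.Consequences
import Cfsg.Agent.Lib.RecogThree.M11.Rep
import Cfsg.Agent.Lib.DegSubTwo.Basic

/-!
# Eigenvalue multiplicities of an element of prime order

The multiplicities of `chr l` are read off the character; a few general lemmas on `p`-elements.
-/

set_option autoImplicit false
set_option linter.unusedSectionVars false
set_option linter.style.haveILetI false

namespace Cfsg.Agent.Lib.Sixteen80.Mult

open Cfsg.Agent.Lib Cfsg.Agent.Lib.FirstPower Average Periods Cfsg.Agent.Lib.Characters.Basic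
open Cfsg.Agent.Lib.DegSubTwo.Basic (lam apply_mul_central)

attribute [local instance] BlocksChars5.Basic.irrFintype

universe u

variable {p : ℕ} [Fact p.Prime] {G : Type u} [Group G] [Finite G]

/-! ## Elements of p-power order -/

/-- An element of p-power order. -/
def PEl (p : ℕ) {M : Type*} [Monoid M] (a : M) : Prop := ∃ k : ℕ, a ^ p ^ k = 1

theorem PEl.of_mem {P : Subgroup G} (hP : IsPGroup p P) {a : G} (ha : a ∈ P) : PEl p a := by
  obtain ⟨k, hk⟩ := hP ⟨a, ha⟩
  exact ⟨k, congrArg Subtype.val hk⟩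

theorem PEl.map {H : Type*} [Group H] {a : G} (ha : PEl p a) (f : G →* H) : PEl p (f a) := by
  obtain ⟨k, hk⟩ := ha
  exact ⟨k, by rw [← map_pow, hk, map_one]⟩

theorem PEl.of_pow_eq_one {a : G} (ha : a ^ p = 1) : PEl p a := ⟨1, by rw [pow_one]; exact ha⟩

theorem PEl.pow {a : G} (ha : PEl p a) (n : ℕ) : PEl p (a ^ n) := by
  obtain ⟨k, hk⟩ := ha
  exact ⟨k, by rw [← pow_mul, mul_comm, pow_mul, hk, one_pow]⟩

theorem PEl.mul {a b : G} (ha : PEl p a) (hb : PEl p b) (hc : Commute a b) : PEl p (a * b) := by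
  obtain ⟨k, hk⟩ := ha
  obtain ⟨l, hl⟩ := hb
  refine ⟨k + l, ?_⟩
  rw [hc.mul_pow, pow_add, pow_mul, hk, one_pow, one_mul, mul_comm, pow_mul, hl, one_pow]

theorem PEl.isPGroup_zpowers {a : G} (ha : PEl p a) : IsPGroup p (Subgroup.zpowers a) := by
  obtain ⟨k, hk⟩ := ha
  rintro ⟨_, i, rfl⟩
  refine ⟨k, Subtype.ext ?_⟩
  show (a ^ i) ^ p ^ k = 1
  rw [← zpow_natCast, ← zpow_mul, mul_comm, zpow_mul, zpow_natCast, hk, one_zpow]

theorem PEl.exists_order {a : G} (ha : PEl p a) (h1 : a ≠ 1) :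
    ∃ k : ℕ, orderOf (a ^ p ^ k) = p := by
  obtain ⟨k, hk⟩ := ha
  induction k generalizing a with
  | zero => rw [pow_zero, pow_one] at hk; exact absurd hk h1
  | succ k ih =>
    by_cases h2 : a ^ p = 1
    · exact ⟨0, by rw [pow_zero, pow_one]; exact orderOf_eq_prime h2 h1⟩
    · obtain ⟨j, hj⟩ := ih h2 (by rw [← pow_mul, ← pow_succ']; exact hk)
      exact ⟨j + 1, by rw [pow_succ', pow_mul]; exact hj⟩

/-- A p-element commuting with a Sylow subgroup lies in it. -/
theorem mem_sylow {P : Sylow p G} {a : G} (ha : PEl p a)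
    (hc : ∀ u ∈ (P : Subgroup G), Commute u a) : a ∈ (P : Subgroup G) := by
  have hle : Subgroup.zpowers a ≤ Subgroup.normalizer ((P : Subgroup G) : Set G) := by
    rw [Subgroup.zpowers_le, Subgroup.mem_normalizer_iff]
    intro u
    refine ⟨fun hu => by rwa [(hc u hu).symm.eq, mul_inv_cancel_right], fun hu => ?_⟩
    have h1 := (hc _ hu).eq
    rw [inv_mul_cancel_right] at h1
    rwa [← mul_left_cancel h1] at hu
  have h := P.is_maximal' (ha.isPGroup_zpowers.to_sup_of_normal_right' P.2 hle) le_sup_right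
  exact h ▸ (le_sup_left : Subgroup.zpowers a ≤ _) (Subgroup.mem_zpowers a)

/-- Commuting p-elements give a normal Sylow subgroup. -/
theorem normal_of_commute (P : Sylow p G)
    (h : ∀ a b : G, PEl p a → PEl p b → Commute a b) : (P : Subgroup G).Normal :=
  ⟨fun _ hu g => mem_sylow ((PEl.of_mem P.2 hu).map (MulAut.conj g).toMonoidHom)
    fun w hw => h w _ (PEl.of_mem P.2 hw) ((PEl.of_mem P.2 hu).map (MulAut.conj g).toMonoidHom)⟩

/-! ## Multiplicities -/

/-- The Fourier coefficient at `chr l`. -/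
noncomputable def coefAt (p : ℕ) [Fact p.Prime] (F : G → ℂ) (a : G) (l : ZMod p) : ℂ :=
  (p : ℂ)⁻¹ * ∑ z : ZMod p, F (a ^ z.val) * chr p (-(l * z))

open scoped Classical in
/-- The multiplicity of the eigenvalue `chr l`. -/
noncomputable def mlt (p : ℕ) [Fact p.Prime] (F : G → ℂ) (a : G) (l : ZMod p) : ℕ :=
  if h : ∃ n : ℕ, coefAt p F a l = n then h.choose else 0

/-- The occurring eigenvalues. -/
noncomputable def supp (p : ℕ) [Fact p.Prime] (F : G → ℂ) (a : G) : Finset (ZMod p) :=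
  Finset.univ.filter fun l => mlt p F a l ≠ 0

theorem mem_supp {F : G → ℂ} {a : G} {l : ZMod p} : l ∈ supp p F a ↔ mlt p F a l ≠ 0 := by
  simp [supp]

theorem mlt_eq {F : G → ℂ} {a : G} {c : ZMod p → ℕ}
    (hc : ∀ z : ZMod p, F (a ^ z.val) = ∑ l, (c l : ℂ) * chr p (l * z)) (l : ZMod p) :
    mlt p F a l = c l := by
  classical
  have h : coefAt p F a l = c l := by
    simp only [coefAt, hc, Finset.sum_mul, mul_assoc]
    rw [Finset.sum_comm]
    simp only [← Finset.mul_sum]
    have : ∀ m : ZMod p, ∑ z : ZMod p, chr p (m * z) * chr p (-(l * z)) =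
        if m = l then (p : ℂ) else 0 := by
      intro m
      rw [← sum_chr_mul_chr m l]
      exact Finset.sum_congr rfl fun z _ => by rw [mul_comm m, mul_comm l]
    simp only [this, mul_ite, mul_zero, Finset.sum_ite_eq', Finset.mem_univ, if_true]
    rw [mul_comm (c l : ℂ), inv_mul_cancel_left₀ (Nat.cast_ne_zero.2 (Fact.out : p.Prime).ne_zero)]
  have hex : ∃ n : ℕ, coefAt p F a l = n := ⟨_, h⟩
  rw [mlt, dif_pos hex]
  exact_mod_cast hex.choose_spec.symm.trans h

variable {F : G → ℂ} {a : G}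

theorem exists_counts (hF : Cfsg.IsCharacter G F) (ha : a ^ p = 1) :
    ∃ c : ZMod p → ℕ, ∀ z : ZMod p, F (a ^ z.val) = ∑ l, (c l : ℂ) * chr p (l * z) := by
  obtain ⟨c, hc⟩ := Average.exists_mult ha (V := ⊥)
    (fun v hv => by rw [Subgroup.mem_bot.mp hv]; exact Commute.one_right a) hF
  simp only [Consequences.aval_bot] at hc
  exact ⟨c, hc⟩

theorem value (hF : Cfsg.IsCharacter G F) (ha : a ^ p = 1) (z : ZMod p) :
    F (a ^ z.val) = ∑ l, (mlt p F a l : ℂ) * chr p (l * z) := by
  obtain ⟨c, hc⟩ := exists_counts hF ha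
  simp only [mlt_eq hc]
  exact hc z

theorem sum_mlt (hF : Cfsg.IsCharacter G F) (ha : a ^ p = 1) :
    ∑ l, mlt p F a l = Cfsg.charDegree F := by
  have h1 := value hF ha 0
  simp only [ZMod.val_zero, pow_zero, mul_zero, chr_zero, mul_one] at h1
  rw [← BlocksChars5.Basic.charDegree_cast hF] at h1
  exact_mod_cast h1.symm

/-- Multiplicities in a combination. -/
theorem mlt_comb {H : Type u} [Group H] [Finite H] {ι : Type*} (s : Finset ι) (n : ι → ℕ)
    {f : ι → H → ℂ} (hf : ∀ i, Cfsg.IsCharacter H (f i)) {b : H} (hb : b ^ p = 1)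
    (hFb : ∀ z : ZMod p, F (a ^ z.val) = ∑ i ∈ s, (n i : ℂ) * f i (b ^ z.val)) (l : ZMod p) :
    mlt p F a l = ∑ i ∈ s, n i * mlt p (f i) b l := by
  refine mlt_eq (c := fun l => ∑ i ∈ s, n i * mlt p (f i) b l) (fun z => ?_) l
  rw [hFb, Finset.sum_congr rfl fun i _ => by rw [value (hf i) hb z, Finset.mul_sum]]
  rw [Finset.sum_comm]
  refine Finset.sum_congr rfl fun l _ => ?_
  push_cast
  rw [Finset.sum_mul]
  exact Finset.sum_congr rfl fun i _ => by ring

theorem mlt_conj (hcl : Cfsg.IsClassFunction G F) (g : G) (l : ZMod p) :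
    mlt p F (g * a * g⁻¹) l = mlt p F a l := by
  have : coefAt p F (g * a * g⁻¹) l = coefAt p F a l := by
    simp only [coefAt, conj_pow]
    exact congrArg _ (Finset.sum_congr rfl fun z _ => by rw [hcl])
  unfold mlt
  generalize coefAt p F (g * a * g⁻¹) l = X at this ⊢
  subst this
  rfl

theorem mlt_shift {H : Type u} [Group H] [Finite H] {f : H → ℂ} (hf : Cfsg.IsCharacter H f) {b : H}
    (hb : b ^ p = 1) {c : ZMod p}
    (hab : ∀ z : ZMod p, F (a ^ z.val) = chr p (c * z) * f (b ^ z.val)) (l : ZMod p) :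
    mlt p F a l = mlt p f b (l - c) := by
  refine mlt_eq (c := fun l => mlt p f b (l - c)) (fun z => ?_) l
  rw [hab, value hf hb, Finset.mul_sum]
  refine Fintype.sum_equiv (Equiv.addRight c) _ _ fun l => ?_
  rw [Equiv.coe_addRight, add_sub_cancel_right, add_mul, chr_add]
  ring

/-- An element acting as a scalar. -/
def Scal (θ : G → ℂ) (a : G) : Prop := ∃ s : ℂ, ∀ g : G, θ (g * a) = s * θ g

theorem scal_center (θ : Cfsg.IrrCharacter G) {z : G} (hz : z ∈ Subgroup.center G) :
    Scal (θ : G → ℂ) z := ⟨lam θ z, apply_mul_central θ hz⟩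

theorem exists_full {θ : Cfsg.IrrCharacter G} (hs : Scal (θ : G → ℂ) a) (ha : a ^ p = 1) :
    ∃ l₀ : ZMod p, mlt p (θ : G → ℂ) a l₀ = Cfsg.charDegree (θ : G → ℂ) := by
  classical
  obtain ⟨s, hs⟩ := hs
  have hpow : ∀ k : ℕ, (θ : G → ℂ) (a ^ k) = s ^ k * (θ : G → ℂ) 1 := by
    intro k
    induction k with
    | zero => simp
    | succ k ih => rw [pow_succ, hs, ih, pow_succ]; ring
  have hsp : s ^ p = 1 := by
    have h1 := hpow p
    rw [ha] at h1
    exact (mul_eq_right₀ (apply_one_ne_zero θ)).1 h1.symm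
  obtain ⟨i, -, hi⟩ := (Periods.root_spec (p := p)).eq_pow_of_pow_eq_one hsp
  refine ⟨(i : ZMod p), ?_⟩
  rw [mlt_eq (c := fun l => if l = (i : ZMod p) then Cfsg.charDegree (θ : G → ℂ) else 0)
    (fun z => ?_), if_pos rfl]
  rw [hpow, ← hi, ← pow_mul, ← chr_natCast, Nat.cast_mul, ZMod.natCast_zmod_val,
    DegreeBounds.Basic.charDegree_irr θ]
  simp [Finset.sum_ite_eq', mul_comm]

/-- A scalar element commutes in the image with everything. -/
theorem Scal.commutator {θ : Cfsg.IrrCharacter G} (hs : Scal (θ : G → ℂ) a) (b : G) :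
    (θ : G → ℂ) (a * b * a⁻¹ * b⁻¹) = (θ : G → ℂ) 1 := by
  obtain ⟨s, hs⟩ := hs
  have h1 := isClassFunction_irr θ (b * a⁻¹ * b⁻¹ * a) a
  rw [show a * (b * a⁻¹ * b⁻¹ * a) * a⁻¹ = a * b * a⁻¹ * b⁻¹ by group] at h1
  rw [h1, hs, isClassFunction_irr θ a⁻¹ b, ← hs, inv_mul_cancel]

/-- The eigenspace. -/
theorem exists_eigen {d : ℕ} (ρ : Representation ℂ G (Fin d → ℂ)) (ha : a ^ p = 1) (l : ZMod p) :
    ∃ W : Submodule ℂ (Fin d → ℂ), Module.finrank ℂ W = mlt p ρ.character a l ∧
      ∀ w, w ∈ W ↔ ρ a w = chr p l • w := by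
  classical
  set P : Module.End ℂ (Fin d → ℂ) :=
    (p : ℂ)⁻¹ • ∑ z : ZMod p, chr p (-(l * z)) • ρ (a ^ z.val) with hP
  have hmul : ∀ w : ZMod p, ρ (a ^ w.val) * P = chr p (l * w) • P := by
    intro w
    rw [hP, mul_smul_comm, Finset.mul_sum, smul_comm (chr p (l * w)), Finset.smul_sum (r := chr p (l * w))]
    congr 1
    refine Fintype.sum_equiv (Equiv.addLeft w) _ _ fun z => ?_
    rw [mul_smul_comm, ← map_mul, ← pow_val_add ha, Equiv.coe_addLeft, smul_smul, ← chr_add]
    congr 2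
    ring
  have hPP : P * P = P := by
    conv_lhs => rw [hP, smul_mul_assoc, Finset.sum_mul, ← hP]
    rw [Finset.sum_congr rfl fun z _ => by
      rw [smul_mul_assoc, hmul, smul_smul, ← chr_add, neg_add_cancel, chr_zero, one_smul],
      Finset.sum_const, Finset.card_univ, ZMod.card, ← Nat.cast_smul_eq_nsmul ℂ, smul_smul,
      inv_mul_cancel₀ (Nat.cast_ne_zero.2 (Fact.out : p.Prime).ne_zero), one_smul]
  refine ⟨LinearMap.range P, ?_, ?_⟩
  · have h1 := RecogThree.M11.Rep.trace_idem P hPP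
    have h2 : LinearMap.trace ℂ _ P = coefAt p ρ.character a l := by
      rw [hP, map_smul, map_sum, smul_eq_mul, coefAt]
      refine congrArg _ (Finset.sum_congr rfl fun z _ => ?_)
      rw [map_smul, smul_eq_mul, mul_comm]
      rfl
    rw [h1] at h2
    rw [mlt, dif_pos ⟨_, h2.symm⟩]
    exact_mod_cast h2.trans (⟨_, h2.symm⟩ : ∃ n : ℕ, coefAt p ρ.character a l = n).choose_spec
  · intro w
    constructor
    · rintro ⟨v, rfl⟩
      have h1 := hmul 1
      rw [pow_val_one ha, mul_one] at h1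
      rw [← Module.End.mul_apply, h1, LinearMap.smul_apply]
    · intro hw
      refine ⟨w, ?_⟩
      have hz : ∀ z : ZMod p, ρ (a ^ z.val) w = chr p (l * z) • w := by
        intro z
        conv_rhs => rw [← ZMod.natCast_zmod_val z]
        induction z.val with
        | zero => rw [pow_zero, map_one, Module.End.one_apply, Nat.cast_zero, mul_zero, chr_zero,
            one_smul]
        | succ k ih =>
          rw [pow_succ', map_mul, Module.End.mul_apply, ih, map_smul, hw, smul_smul, ← chr_add,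
            Nat.cast_succ, mul_add, mul_one]
      rw [hP, LinearMap.smul_apply, LinearMap.sum_apply, Finset.sum_congr rfl fun z _ => by
        rw [LinearMap.smul_apply, hz, smul_smul, ← chr_add, neg_add_cancel, chr_zero, one_smul],
        Finset.sum_const, Finset.card_univ, ZMod.card, ← Nat.cast_smul_eq_nsmul ℂ, smul_smul,
        inv_mul_cancel₀ (Nat.cast_ne_zero.2 (Fact.out : p.Prime).ne_zero), one_smul]

/-- A subspace invariant under generators of the group is trivial. -/
theorem eq_bot_or_top {d : ℕ} (ρ : Representation ℂ G (Fin d → ℂ)) [hρ : ρ.IsIrreducible]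
    {T : Set G} (hT : Subgroup.closure T = ⊤) (W : Submodule ℂ (Fin d → ℂ))
    (hW : ∀ t ∈ T, ∀ w ∈ W, ρ t w ∈ W) : W = ⊥ ∨ W = ⊤ := by
  have hall : ∀ g : G, ∀ w ∈ W, ρ g w ∈ W := by
    intro g
    have hg : g ∈ Subgroup.closure T := hT ▸ Subgroup.mem_top g
    induction hg using Subgroup.closure_induction with
    | mem t ht => exact hW t ht
    | one => intro w hw; rwa [map_one, Module.End.one_apply]
    | mul a b _ _ ha hb =>
      intro w hw
      rw [map_mul, Module.End.mul_apply]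
      exact ha _ (hb w hw)
    | inv a _ ha =>
      obtain ⟨n, hn⟩ : ∃ n : ℕ, a⁻¹ = a ^ n := by
        refine ⟨orderOf a - 1, ?_⟩
        rw [inv_eq_iff_mul_eq_one, ← pow_succ',
          Nat.sub_add_cancel (orderOf_pos a), pow_orderOf_eq_one]
      rw [hn]
      clear hn
      induction n with
      | zero => intro w hw; rwa [pow_zero, map_one, Module.End.one_apply]
      | succ n ih =>
        intro w hw
        rw [pow_succ', map_mul, Module.End.mul_apply]
        exact ha _ (ih w hw)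
  rcases hρ.eq_bot_or_eq_top (⟨W, fun g w hw => hall g w hw⟩ : Subrepresentation ρ) with h | h
  · exact Or.inl (congrArg Subrepresentation.toSubmodule h)
  · exact Or.inr (congrArg Subrepresentation.toSubmodule h)

end Cfsg.Agent.Lib.Sixteen80.Mult
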