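import Cfsg.Agent.Lib.Sixteen80.Mult
import Cfsg.Agent.Lib.Characters.Linear
import Cfsg.Agent.Lib.Clifford.Rep

/-!
# Normalising an irreducible character to determinant one

The scalar multiples of determinant one of the matrices of an irreducible representation form a
finite group with a faithful irreducible character of the same degree, the same projective image
and a centre of order prime to `p` when `p` exceeds the degree.
-/

set_option autoImplicit false
set_option linter.unusedSectionVars false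
set_option linter.style.haveILetI false

namespace Cfsg.Agent.Lib.Sixteen80.Normalise

open Cfsg.Agent.Lib Cfsg.Agent.Lib.FirstPower Average Periods Cfsg.Agent.Lib.Characters.Basic
open Cfsg.Agent.Lib.Characters.Kernel (rep_eq_one_iff)
open Mult

universe u

variable {p : ℕ} [Fact p.Prime] {H : Type u} [Group H] [Finite H]

/-- The determinant. -/
noncomputable def dHom {d : ℕ} (σ : Representation ℂ H (Fin d → ℂ)) : H →* ℂˣ :=
  (LinearMap.det.comp σ).toHomUnits

theorem coe_dHom {d : ℕ} (σ : Representation ℂ H (Fin d → ℂ)) (h : H) :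
    (dHom σ h : ℂ) = LinearMap.det (σ h) := rfl

/-- The pairs of a group element and a scalar with product of determinant one. -/
noncomputable def pre {d : ℕ} (σ : Representation ℂ H (Fin d → ℂ)) : Subgroup (H × ℂˣ) :=
  ((powMonoidHom d).comp (MonoidHom.snd H ℂˣ) * (dHom σ).comp (MonoidHom.fst H ℂˣ)).ker

theorem mem_pre {d : ℕ} {σ : Representation ℂ H (Fin d → ℂ)} {a : H × ℂˣ} :
    a ∈ pre σ ↔ a.2 ^ d * dHom σ a.1 = 1 := Iff.rfl

theorem finite_pre {d : ℕ} (hd : d ≠ 0) (σ : Representation ℂ H (Fin d → ℂ)) :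
    Finite (pre σ) := by
  have hn : d * Nat.card H ≠ 0 := mul_ne_zero hd Nat.card_pos.ne'
  haveI : NeZero (d * Nat.card H) := ⟨hn⟩
  have hmem : ∀ a : pre σ, (a : H × ℂˣ).2 ∈ rootsOfUnity (d * Nat.card H) ℂ := fun a => by
    have h1 := congrArg (fun e : ℂˣ => e ^ Nat.card H) (mem_pre.1 a.2)
    simp only [mul_pow, ← pow_mul, ← map_pow, pow_card_eq_one', map_one, mul_one, one_pow] at h1
    rw [mem_rootsOfUnity]
    exact h1
  exact Finite.of_injective
    (fun a : pre σ => ((a : H × ℂˣ).1, (⟨_, hmem a⟩ : rootsOfUnity (d * Nat.card H) ℂ)))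
    fun a b e => by
      simp only [Prod.mk.injEq, Subtype.mk.injEq] at e
      exact Subtype.ext (Prod.ext e.1 e.2)

/-- The representation of determinant one. -/
noncomputable def prod {d : ℕ} (σ : Representation ℂ H (Fin d → ℂ)) :
    Representation ℂ (pre σ) (Fin d → ℂ) where
  toFun a := (((a : H × ℂˣ).2 : ℂˣ) : ℂ) • σ (a : H × ℂˣ).1
  map_one' := by simp
  map_mul' a b := by
    simp only [Subgroup.coe_mul, Prod.fst_mul, Prod.snd_mul, Units.val_mul, map_mul,
      smul_mul_smul_comm]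

theorem exists_lift {d : ℕ} (hd : d ≠ 0) (σ : Representation ℂ H (Fin d → ℂ)) (h : H) :
    ∃ c : ℂˣ, (h, c) ∈ pre σ := by
  obtain ⟨c, hc⟩ := IsAlgClosed.exists_pow_nat_eq
    (((dHom σ h)⁻¹ : ℂˣ) : ℂ) (Nat.pos_of_ne_zero hd)
  have hc0 : c ≠ 0 := fun e => by
    rw [e, zero_pow hd] at hc
    exact Units.ne_zero _ hc.symm
  refine ⟨Units.mk0 c hc0, mem_pre.2 (Units.ext ?_)⟩
  rw [Units.val_mul, Units.val_pow_eq_pow_val, Units.val_mk0, hc, ← Units.val_mul, inv_mul_cancel,
    Units.val_one]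

set_option maxHeartbeats 800000 in
/-- The normalised group. -/
theorem exists_norm (θ : Cfsg.IrrCharacter H) (hd : Cfsg.charDegree (θ : H → ℂ) < p) :
    ∃ (K : Type u) (_ : Group K) (_ : Finite K) (φ : Cfsg.IrrCharacter K) (L : H → K)
      (π : H →* K ⧸ Subgroup.center K),
      (∀ k, (φ : K → ℂ) k = (φ : K → ℂ) 1 → k = 1) ∧
      Cfsg.charDegree (φ : K → ℂ) = Cfsg.charDegree (θ : H → ℂ) ∧
      ¬ p ∣ Nat.card (Subgroup.center K) ∧
      Function.Surjective π ∧
      (∀ h, π h = 1 ↔ ∀ k, (θ : H → ℂ) (h * k * h⁻¹ * k⁻¹) = (θ : H → ℂ) 1) ∧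
      (∀ a, PEl p a → PEl p (L a)) ∧
      (∀ a, a ^ p = 1 → L a ^ p = 1 ∧ ∃ c : ZMod p, ∀ z : ZMod p,
        (φ : K → ℂ) (L a ^ z.val) = chr p (c * z) * (θ : H → ℂ) (a ^ z.val)) ∧
      (∀ a b, PEl p a → PEl p b → Commute a b → L (a * b) = L a * L b) ∧
      (∀ a b, PEl p a → PEl p b → Commute (L a) (L b) →
        (θ : H → ℂ) (a * b * a⁻¹ * b⁻¹) = (θ : H → ℂ) 1) ∧
      ∀ a, PEl p a → L a = 1 → Scal (θ : H → ℂ) a := by
  classical
  have hp : p.Prime := Fact.out
  obtain ⟨d, σ, hσ, hσθ⟩ := exists_rep θ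
  haveI := hσ
  have hdθ : Cfsg.charDegree (θ : H → ℂ) = d := by
    have h0 : (θ : H → ℂ) 1 = d := by
      rw [← hσθ, Representation.char_one, Module.finrank_fin_fun]
    rw [DegreeBounds.Basic.charDegree_irr] at h0
    exact_mod_cast h0
  have hd0 : d ≠ 0 := by
    rw [← hdθ]
    exact (BlocksChars5.Basic.degree_pos θ).ne'
  rw [hdθ] at hd
  haveI := finite_pre hd0 σ
  let fs : pre σ →* H := (MonoidHom.fst H ℂˣ).comp (pre σ).subtype
  have hfs : Function.Surjective fs := fun h =>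
    let ⟨c, hc⟩ := exists_lift hd0 σ h
    ⟨⟨(h, c), hc⟩, rfl⟩
  let sc : pre σ →* ℂˣ := (MonoidHom.snd H ℂˣ).comp (pre σ).subtype
  let χ : Cfsg.IrrCharacter (pre σ) := ⟨(fun a => (sc a : ℂ)) * ((θ : H → ℂ) ∘ fs),
    Characters.Linear.isIrrCharacter_linear_mul
      (IsCharacter_of_isIrrCharacter (BlocksChars5.Basic.isIrr_of_hom sc)) (by simp)
      (isIrrCharacter_comp fs hfs θ.2)⟩
  have hχv : ∀ a : pre σ, (χ : pre σ → ℂ) a = (sc a : ℂ) * (θ : H → ℂ) (fs a) := fun a => rfl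
  have hprod : ∀ a, (prod σ).character a = (χ : pre σ → ℂ) a := fun a => by
    rw [hχv, ← hσθ, Representation.character, Representation.character, show (prod σ) a =
      (sc a : ℂ) • σ (fs a) from rfl, map_smul, smul_eq_mul]
  have hχ1 : (χ : pre σ → ℂ) 1 = (θ : H → ℂ) 1 := by
    rw [hχv, map_one, map_one, Units.val_one, one_mul]
  haveI := BlocksChars5.Basic.charKer_normal χ
  set N := BlocksChars5.Basic.charKer χ with hN
  obtain ⟨φ, hφ⟩ := BlocksChars5.Basic.exists_deflate χ N le_rfl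
  have hφv : ∀ a : pre σ, (φ : pre σ ⧸ N → ℂ) a = (χ : pre σ → ℂ) a := fun a => by
    rw [← hφ, BlocksChars5.Basic.inflate_apply]
  -- central elements of the quotient are scalars
  have hcen : ∀ a : pre σ, (QuotientGroup.mk a : pre σ ⧸ N) ∈ Subgroup.center (pre σ ⧸ N) ↔
      ∀ k, (θ : H → ℂ) (fs a * k * (fs a)⁻¹ * k⁻¹) = (θ : H → ℂ) 1 := by
    intro a
    have hval : ∀ b : pre σ, (χ : pre σ → ℂ) (a * b * a⁻¹ * b⁻¹) =
        (θ : H → ℂ) (fs a * fs b * (fs a)⁻¹ * (fs b)⁻¹) := fun b => by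
      rw [hχv, map_mul sc, map_mul sc, map_mul sc, map_inv, map_inv, mul_right_comm (sc a),
        mul_inv_cancel, one_mul, mul_inv_cancel, Units.val_one, one_mul]
      simp only [map_mul, map_inv]
    rw [Subgroup.mem_center_iff]
    constructor
    · intro hc k
      obtain ⟨b, rfl⟩ := hfs k
      rw [← hval, ← hχ1]
      refine (BlocksChars5.Basic.mem_charKer χ _).1 ((QuotientGroup.eq_one_iff _).1 ?_)
      rw [QuotientGroup.mk_mul, QuotientGroup.mk_mul, QuotientGroup.mk_mul, ← hc (b : pre σ ⧸ N),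
        QuotientGroup.mk_inv, QuotientGroup.mk_inv, mul_inv_cancel_right, mul_inv_cancel]
    · intro hc q
      obtain ⟨b, rfl⟩ := QuotientGroup.mk_surjective q
      have h1 : (QuotientGroup.mk (a * b * a⁻¹ * b⁻¹) : pre σ ⧸ N) = 1 :=
        (QuotientGroup.eq_one_iff _).2 ((BlocksChars5.Basic.mem_charKer χ _).2 (by
          rw [hval, hχ1]; exact hc _))
      rw [QuotientGroup.mk_mul, QuotientGroup.mk_mul, QuotientGroup.mk_mul, QuotientGroup.mk_inv,
        QuotientGroup.mk_inv, mul_inv_eq_one, mul_inv_eq_iff_eq_mul] at h1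
      exact h1.symm
  -- the projective map
  choose lift hlift using exists_lift hd0 σ
  let toP : pre σ → (pre σ ⧸ N) ⧸ Subgroup.center (pre σ ⧸ N) := fun a =>
    QuotientGroup.mk (QuotientGroup.mk a)
  have hwell : ∀ a b : pre σ, fs a = fs b → toP a = toP b := by
    intro a b hab
    refine QuotientGroup.eq.2 ?_
    rw [← QuotientGroup.mk_inv, ← QuotientGroup.mk_mul, hcen]
    intro k
    rw [map_mul, map_inv, hab, inv_mul_cancel]
    simp
  let π : H →* (pre σ ⧸ N) ⧸ Subgroup.center (pre σ ⧸ N) :=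
    MonoidHom.mk' (fun h => toP ⟨(h, lift h), hlift h⟩) fun a b =>
      (hwell ⟨(a * b, lift (a * b)), hlift (a * b)⟩
        (⟨(a, lift a), hlift a⟩ * ⟨(b, lift b), hlift b⟩) rfl).trans rfl
  -- the lift of elements of p-power order
  set v := (Nat.card H).factorization p with hv
  have hE : ∀ a : H, PEl p a → a ^ p ^ v = 1 := by
    rintro a ⟨k, hk⟩
    obtain ⟨j, -, hj⟩ := (Nat.dvd_prime_pow hp).1 (orderOf_dvd_of_pow_eq_one hk)
    refine orderOf_dvd_iff_pow_eq_one.1 (hj ▸ pow_dvd_pow p ?_)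
    exact (hp.pow_dvd_iff_le_factorization Nat.card_pos.ne').1 (hj ▸ orderOf_dvd_natCard a)
  obtain ⟨k, hk⟩ : ∃ k : ℕ, d * k ≡ 1 [MOD p ^ v] := by
    have hcop : d.Coprime (p ^ v) := Nat.Coprime.pow_right v ((hp.coprime_iff_not_dvd.2
      fun hdv => by have := Nat.le_of_dvd (Nat.pos_of_ne_zero hd0) hdv; omega).symm)
    obtain ⟨k, -, hk⟩ := Nat.chineseRemainder hcop 0 1
    rcases Nat.eq_zero_or_pos v with h0 | h0
    · exact ⟨0, by rw [h0, pow_zero]; exact Nat.modEq_one⟩
    exact ⟨((ZMod.unitOfCoprime d hcop)⁻¹ : (ZMod (p ^ v))ˣ).val.val, by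
      haveI : NeZero (p ^ v) := ⟨pow_ne_zero _ hp.ne_zero⟩
      rw [← ZMod.natCast_eq_natCast_iff, Nat.cast_mul, ZMod.natCast_zmod_val, Nat.cast_one,
        ← ZMod.coe_unitOfCoprime d hcop, ← Units.val_mul, mul_inv_cancel, Units.val_one]⟩
  let cf : H →* ℂˣ := (powMonoidHom k).comp (invMonoidHom.comp (dHom σ))
  have hcf : ∀ h, cf h = ((dHom σ h)⁻¹) ^ k := fun h => rfl
  have hvalid : ∀ a, PEl p a → (a, cf a) ∈ pre σ := by
    intro a ha
    rw [mem_pre]
    show cf a ^ d * dHom σ a = 1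
    have h1 : ((dHom σ a)⁻¹) ^ p ^ v = 1 := by rw [inv_pow, ← map_pow, hE a ha, map_one, inv_one]
    rw [hcf, ← pow_mul, mul_comm k d,
      (pow_eq_pow_iff_modEq.2 (hk.of_dvd (orderOf_dvd_of_pow_eq_one h1))), pow_one, inv_mul_cancel]
  let L : H → pre σ ⧸ N := fun a =>
    if ha : (a, cf a) ∈ pre σ then QuotientGroup.mk ⟨(a, cf a), ha⟩ else 1
  have hL : ∀ a (ha : PEl p a), L a = QuotientGroup.mk (⟨(a, cf a), hvalid a ha⟩ : pre σ) :=
    fun a ha => dif_pos _
  refine ⟨pre σ ⧸ N, inferInstance, inferInstance, φ, L, π, ?_, ?_, ?_, ?_, ?_, ?_, ?_, ?_, ?_,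
    ?_⟩
  · intro q
    obtain ⟨a, rfl⟩ := QuotientGroup.mk_surjective q
    intro he
    rw [hφv, ← QuotientGroup.mk_one, hφv] at he
    exact (QuotientGroup.eq_one_iff a).mpr ((BlocksChars5.Basic.mem_charKer χ a).mpr he)
  · exact BlocksChars5.Basic.charDegree_congr (by
      rw [← hχ1, ← hφv 1]; rfl)
  · intro hpd
    obtain ⟨⟨w, hw⟩, hwo⟩ := exists_prime_orderOf_dvd_card' p hpd
    rw [Subgroup.orderOf_mk] at hwo
    obtain ⟨a, rfl⟩ := QuotientGroup.mk_surjective w
    have hcom : ∀ g : H, σ (fs a) * σ g = σ g * σ (fs a) := fun g => by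
      have h1 := (rep_eq_one_iff σ (fs a * g * (fs a)⁻¹ * g⁻¹)).2
        (by rw [hσθ]; exact (hcen a).1 hw g)
      calc σ (fs a) * σ g = σ (fs a * g) := (map_mul _ _ _).symm
        _ = σ (fs a * g * (fs a)⁻¹ * g⁻¹) * σ (g * fs a) := by rw [← map_mul]; congr 1; group
        _ = _ := by rw [h1, one_mul, map_mul]
    obtain ⟨r, hr⟩ := Clifford.Rep.schur σ (σ (fs a)) hcom
    set s := (sc a : ℂ) * r with hs
    have hpa : prod σ a = s • 1 := by
      rw [show (prod σ) a = (sc a : ℂ) • σ (fs a) from rfl, hr, smul_smul]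
    have hsd : s ^ d = 1 := by
      have h1 : LinearMap.det (prod σ a) = 1 := by
        rw [show (prod σ) a = (sc a : ℂ) • σ (fs a) from rfl, LinearMap.det_smul,
          Module.finrank_fin_fun, ← coe_dHom, ← Units.val_pow_eq_pow_val, ← Units.val_mul]
        exact congrArg Units.val (mem_pre.1 a.2)
      rw [hpa, LinearMap.det_smul, Module.finrank_fin_fun, map_one, mul_one] at h1
      exact h1
    have hsp : s ^ p = 1 := by
      have h1 : (QuotientGroup.mk (a ^ p) : pre σ ⧸ N) = 1 := by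
        rw [QuotientGroup.mk_pow, ← hwo, pow_orderOf_eq_one]
      have h2 := (BlocksChars5.Basic.mem_charKer χ _).1 ((QuotientGroup.eq_one_iff _).1 h1)
      rw [← hprod, ← hprod, Representation.character, Representation.character, map_pow, hpa,
        smul_pow, one_pow, map_one (prod σ), map_smul, smul_eq_mul, LinearMap.trace_one,
        Module.finrank_fin_fun] at h2
      exact (mul_eq_right₀ (Nat.cast_ne_zero.2 hd0)).1 h2
    have hs1 : s = 1 := by
      have hcop : Nat.Coprime p d := hp.coprime_iff_not_dvd.2 fun hdv => by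
        have := Nat.le_of_dvd (Nat.pos_of_ne_zero hd0) hdv
        omega
      have h1 := Nat.eq_one_of_dvd_coprimes hcop (orderOf_dvd_of_pow_eq_one hsp)
        (orderOf_dvd_of_pow_eq_one hsd)
      exact orderOf_eq_one_iff.1 h1
    have h3 : (QuotientGroup.mk a : pre σ ⧸ N) = 1 := by
      refine (QuotientGroup.eq_one_iff a).2 ((BlocksChars5.Basic.mem_charKer χ a).2 ?_)
      rw [← hprod, ← hprod, Representation.character, Representation.character, hpa, hs1, one_smul,
        map_one (prod σ)]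
    rw [h3, orderOf_one] at hwo
    exact hp.one_lt.ne hwo
  · intro q
    obtain ⟨q, rfl⟩ := QuotientGroup.mk_surjective q
    obtain ⟨a, rfl⟩ := QuotientGroup.mk_surjective q
    exact ⟨fs a, hwell _ a rfl⟩
  · intro h
    show toP _ = 1 ↔ _
    rw [QuotientGroup.eq_one_iff, hcen]
    rfl
  · intro a ha
    rw [hL a ha]
    obtain ⟨j, hj⟩ := ha
    refine ⟨j, ?_⟩
    rw [← QuotientGroup.mk_pow, show (⟨(a, cf a), hvalid a ⟨j, hj⟩⟩ : pre σ) ^ p ^ j = 1 from
      Subtype.ext (Prod.ext hj (by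
        show cf a ^ p ^ j = 1
        rw [← map_pow, hj, map_one])), QuotientGroup.mk_one]
  · intro a ha
    have hpa : PEl p a := PEl.of_pow_eq_one ha
    refine ⟨?_, ?_⟩
    · rw [hL a hpa, ← QuotientGroup.mk_pow, show (⟨(a, cf a), hvalid a hpa⟩ : pre σ) ^ p = 1 from
        Subtype.ext (Prod.ext ha (by
          show cf a ^ p = 1
          rw [← map_pow, ha, map_one])), QuotientGroup.mk_one]
    · have hc : ((cf a : ℂˣ) : ℂ) ^ p = 1 := by
        rw [← Units.val_pow_eq_pow_val, ← map_pow, ha, map_one, Units.val_one]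
      obtain ⟨i, -, hi⟩ := (Periods.root_spec (p := p)).eq_pow_of_pow_eq_one hc
      refine ⟨(i : ZMod p), fun z => ?_⟩
      rw [hL a hpa, ← QuotientGroup.mk_pow, hφv, hχv, map_pow, map_pow, Units.val_pow_eq_pow_val,
        show (sc (⟨(a, cf a), hvalid a hpa⟩ : pre σ) : ℂ) = (cf a : ℂ) from rfl, ← hi, ← pow_mul,
        ← chr_natCast, Nat.cast_mul, ZMod.natCast_zmod_val]
      rfl
  · intro a b ha hb hab
    rw [hL a ha, hL b hb, hL _ (ha.mul hb hab), ← QuotientGroup.mk_mul]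
    exact congrArg _ (Subtype.ext (Prod.ext rfl (map_mul cf a b)))
  · intro a b ha hb hab
    rw [hL a ha, hL b hb] at hab
    set A : pre σ := ⟨(a, cf a), hvalid a ha⟩
    set B : pre σ := ⟨(b, cf b), hvalid b hb⟩
    have h1 : (QuotientGroup.mk (A * B * A⁻¹ * B⁻¹) : pre σ ⧸ N) = 1 := by
      rw [QuotientGroup.mk_mul, QuotientGroup.mk_mul, QuotientGroup.mk_mul, hab.eq,
        QuotientGroup.mk_inv, QuotientGroup.mk_inv, mul_inv_cancel_right, mul_inv_cancel]
    have h2 := (BlocksChars5.Basic.mem_charKer χ _).1 ((QuotientGroup.eq_one_iff _).1 h1)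
    rw [hχ1, hχv, map_mul sc, map_mul sc, map_mul sc, map_inv, map_inv, mul_right_comm (sc A),
      mul_inv_cancel, one_mul, mul_inv_cancel, Units.val_one, one_mul] at h2
    simp only [map_mul, map_inv] at h2
    exact h2
  · intro a ha h1
    rw [hL a ha] at h1
    set A : pre σ := ⟨(a, cf a), hvalid a ha⟩ with hA
    refine ⟨((cf a)⁻¹ : ℂˣ), fun g => ?_⟩
    obtain ⟨b, rfl⟩ := hfs g
    have h2 := BlocksChars5.Basic.apply_mul_of_mem χ b A ((QuotientGroup.eq_one_iff _).1 h1)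
    rw [hχv, hχv, map_mul sc, map_mul fs] at h2
    have h3 : (θ : H → ℂ) (fs b * a) * (cf a : ℂ) = (θ : H → ℂ) (fs b) := by
      refine mul_left_cancel₀ (sc b).ne_zero (Eq.trans ?_ h2)
      rw [Units.val_mul, show fs A = a from rfl, show (sc A : ℂ) = (cf a : ℂ) from rfl]
      ring
    rw [← h3, mul_comm, mul_assoc, ← Units.val_mul, mul_inv_cancel, Units.val_one, mul_one]

end Cfsg.Agent.Lib.Sixteen80.Normalise
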