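import Cfsg.Agent.Lib.Sixteen80.Reduce
import Cfsg.Agent.Lib.Brauer.TIBound
import Cfsg.Agent.Lib.FeitSmall.Half

/-!
# `p²` does not divide the order of a linear group of degree at most 16 for `p ≥ 19`

Provided the centre has order prime to `p` and the p-elements do not commute.
-/

set_option autoImplicit false
set_option linter.unusedSectionVars false
set_option linter.style.haveILetI false

namespace Cfsg.Agent.Lib.Sixteen80.Prime

open Cfsg.Agent.Lib Cfsg.Agent.Lib.FirstPower Average Periods Cfsg.Agent.Lib.Characters.Basic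
open Mult Reduce
open scoped Pointwise

attribute [local instance] BlocksChars5.Basic.irrFintype

universe u

variable {p : ℕ} [Fact p.Prime] {G : Type u} [Group G] [Finite G] {χ : Cfsg.IrrCharacter G}

/-- p-elements of a common p-subgroup commute. -/
theorem comm_of_pgroup (C : Ctx p χ) {Q : Subgroup G} (hQ : IsPGroup p Q) {a b : G} (ha : a ∈ Q)
    (hb : b ∈ Q) : Commute a b := by
  classical
  have hp : p.Prime := Fact.out
  by_contra hab
  obtain ⟨n, hexp, hsum⟩ := exists_expand Q (isCharacter_irr χ)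
  obtain ⟨θ, hθ, hne⟩ := exists_separating C.faith Q hexp (a := ⟨a, ha⟩) (b := ⟨b, hb⟩) hab
  have hle := (deg_le hsum hθ).trans C.deg
  obtain ⟨k, hk⟩ := hQ.exists_card_eq
  obtain ⟨i, -, hi⟩ := (Nat.dvd_prime_pow hp).1 (hk ▸ BlocksChars5.Basic.degree_dvd_card θ)
  have h1 : Cfsg.charDegree (θ : Q → ℂ) = 1 := by
    rcases Nat.eq_zero_or_pos i with h0 | h0
    · rw [hi, h0, pow_zero]
    · exfalso
      have h2 : p ≤ p ^ i := Nat.le_self_pow h0.ne' p
      have := C.big
      omega
  have hone : (θ : Q → ℂ) 1 = 1 := by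
    rw [DegreeBounds.Basic.charDegree_irr, h1, Nat.cast_one]
  apply hne
  simp only [Characters.Linear.apply_mul_of_degree_one (isCharacter_irr θ) hone]
  rw [mul_right_comm ((θ : Q → ℂ) ⟨a, ha⟩), ← Characters.Linear.apply_mul_of_degree_one
    (isCharacter_irr θ) hone, mul_inv_cancel, hone, one_mul,
    ← Characters.Linear.apply_mul_of_degree_one (isCharacter_irr θ) hone, mul_inv_cancel]
  exact hone

/-- A normal subgroup with all p-elements is everything. -/
theorem no_proper (C : Ctx p χ) (hsq : p ^ 2 ∣ Nat.card G) (M : Subgroup G) [M.Normal]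
    (hM : ∀ a : G, PEl p a → a ∈ M) : M = ⊤ := by
  classical
  by_contra hMtop
  obtain ⟨a, b, ha, hb, hab⟩ := C.nc
  set a' : M := ⟨a, hM a ha⟩
  set b' : M := ⟨b, hM b hb⟩
  have ha' : PEl p a' := by
    obtain ⟨k, hk⟩ := ha
    exact ⟨k, Subtype.ext (by simpa using hk)⟩
  have hb' : PEl p b' := by
    obtain ⟨k, hk⟩ := hb
    exact ⟨k, Subtype.ext (by simpa using hk)⟩
  have hab' : ¬ Commute a' b' := fun hc => hab (congrArg Subtype.val hc.eq)
  haveI := Fintype.ofFinite G
  haveI := Fintype.ofFinite M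
  obtain ⟨d, ρ, hρ, hρχ⟩ := exists_rep χ
  haveI := hρ
  let ρM : Representation ℂ M (Fin d → ℂ) := ρ.comp M.subtype
  have hρMc : ρM.character = fun m : M => (χ : G → ℂ) m := by
    funext m
    rw [← hρχ]
    rfl
  have hirr_case : ρM.IsIrreducible → False := by
    intro hirr
    haveI := hirr
    let φ : Cfsg.IrrCharacter M := ⟨fun m : M => (χ : G → ℂ) m, d, ρM, hirr, hρMc⟩
    have hcM : Subgroup.center M ≤ (Subgroup.center G).subgroupOf M := by
      intro z hz
      obtain ⟨r, hr⟩ := Clifford.Rep.schur ρM (ρM z) (fun m => by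
        rw [← map_mul, ← map_mul, Subgroup.mem_center_iff.1 hz m])
      rw [Subgroup.mem_subgroupOf, Subgroup.mem_center_iff]
      intro g
      have hr' : ρ (z : G) = r • 1 := hr
      have h1 : ρ (g * z * (z * g)⁻¹) = ρ 1 := by
        have h0 : ρ (g * z) = ρ ((z : G) * g) := by
          rw [map_mul, map_mul, hr', mul_smul_comm, smul_mul_assoc, one_mul, mul_one]
        rw [map_mul, h0, ← map_mul, mul_inv_cancel]
      have h2 := C.faith (g * z * (z * g)⁻¹) (by
        rw [← hρχ, Representation.character, Representation.character, h1])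
      exact mul_inv_eq_one.1 h2
    have hcle : (Subgroup.center G).subgroupOf M ≤ Subgroup.center M := by
      intro z hz
      rw [Subgroup.mem_center_iff]
      intro m
      exact Subtype.ext (Subgroup.mem_center_iff.1 (Subgroup.mem_subgroupOf.1 hz) m)
    have hceq := le_antisymm hcM hcle
    have hcen : ¬ p ∣ Nat.card (Subgroup.center M) := by
      intro hd
      haveI : Fact p.Prime := inferInstance
      obtain ⟨⟨z, hz⟩, hzo⟩ := exists_prime_orderOf_dvd_card' p hd
      rw [Subgroup.orderOf_mk, ← Subgroup.orderOf_coe] at hzo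
      exact C.cen (hzo ▸ Subgroup.orderOf_dvd_natCard _ (Subgroup.mem_subgroupOf.1 (hceq ▸ hz)))
    have hidx : (Subgroup.center M).index ≤ (Subgroup.center G).index := by
      rw [hceq]
      exact Nat.le_of_dvd (Nat.pos_of_ne_zero Subgroup.index_ne_zero_of_finite)
        (Subgroup.relIndex_dvd_index_of_normal _ M)
    have hcard : Nat.card M < Nat.card G := by
      refine lt_of_le_of_ne (Nat.le_of_dvd Nat.card_pos (Subgroup.card_subgroup_dvd_card M)) ?_
      exact fun e => hMtop (Subgroup.eq_top_of_card_eq M e)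
    refine C.ih M φ (fun m hm => Subtype.ext (C.faith _ hm))
      ((BlocksChars5.Basic.charDegree_congr rfl).trans_le C.deg) hcen ⟨a', b', ha', hb', hab'⟩
      (Or.inr ⟨hidx, hcard⟩) ?_
    obtain ⟨P, -⟩ := (IsPGroup.of_bot (p := p) (G := G)).exists_le_sylow
    have h1 := Subgroup.card_dvd_of_le
      (show (P : Subgroup G) ≤ M from fun u hu => hM u (PEl.of_mem P.2 hu))
    exact (P.pow_dvd_card_of_pow_dvd_card hsq).trans h1
  by_cases hirr : ρM.IsIrreducible
  · exact hirr_case hirr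
  have hMZ : M ⊔ Subgroup.center G ≠ ⊤ := by
    intro htop
    refine hirr ?_
    haveI : Nontrivial (Subrepresentation ρM) := by
      haveI := Clifford.Rep.nontrivial_of_irreducible ρ
      refine ⟨⟨⊥, ⊤, fun e => ?_⟩⟩
      exact bot_ne_top (α := Submodule ℂ (Fin d → ℂ)) (congrArg Subrepresentation.toSubmodule e)
    refine ⟨fun q => ?_⟩
    have := eq_bot_or_top ρ (T := (M : Set G) ∪ (Subgroup.center G : Set G)) (by
      rw [Subgroup.closure_union, Subgroup.closure_eq, Subgroup.closure_eq, htop]) q.toSubmodule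
      (fun t ht w hw => by
        rcases ht with ht | ht
        · exact q.apply_mem_toSubmodule (⟨t, ht⟩ : M) hw
        · rw [FeitSmall.Budget.rho_center ρ hρχ ht, LinearMap.smul_apply, Module.End.one_apply]
          exact q.toSubmodule.smul_mem _ hw)
    rcases this with h | h
    · exact Or.inl (Subrepresentation.toSubmodule_injective h)
    · exact Or.inr (Subrepresentation.toSubmodule_injective h)
  obtain ⟨n, hexp, hsum⟩ := exists_expand M (isCharacter_irr χ)
  obtain ⟨θ, hθ, hne⟩ := exists_separating C.faith M hexp (a := a') (b := b') hab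
  have hθin : Cfsg.classInner (fun m : M => (χ : G → ℂ) m) (θ : M → ℂ) ≠ 0 := by
    have h1 : Cfsg.classInner (fun m : M => (χ : G → ℂ) m) (θ : M → ℂ) = n θ := by
      rw [show (fun m : M => (χ : G → ℂ) m) =
        ∑ θ : Cfsg.IrrCharacter M, (n θ : ℂ) • (θ : M → ℂ) from funext fun m => by
          rw [hexp m]; simp [Finset.sum_apply]]
      exact Characters.Complete.classInner_irr_sum _ θ
    rw [h1]
    exact Nat.cast_ne_zero.2 hθ
  obtain ⟨e, he⟩ := exists_classInner_nat
    (isCharacter_comp M.subtype (isCharacter_irr χ)) (isCharacter_irr θ)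
  have he' : Cfsg.classInner (fun m : M => (χ : G → ℂ) m) (θ : M → ℂ) = e := he
  set t := (Clifford.Basic.inertia M (θ : M → ℂ)).index with ht
  have hdeg : Cfsg.charDegree (χ : G → ℂ) = e * t * Cfsg.charDegree (θ : M → ℂ) := by
    have h' := Clifford.Basic.clifford_degree M χ.2 θ hθin
    rw [he', DegreeBounds.Basic.charDegree_irr θ, ← ht, DegreeBounds.Basic.charDegree_irr χ] at h'
    exact_mod_cast h'
  have het : 2 ≤ e * t := by
    rcases Nat.lt_or_ge (e * t) 2 with hlt | hge
    swap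
    · exact hge
    exfalso
    have hdpos := BlocksChars5.Basic.degree_pos χ
    have het1 : e * t = 1 := by
      rcases Nat.eq_zero_or_pos (e * t) with h0 | h0
      · rw [h0, zero_mul] at hdeg
        omega
      · omega
    obtain ⟨he1, ht1⟩ := mul_eq_one.1 het1
    have hinv : ∀ g, Clifford.Basic.conjC M g (θ : M → ℂ) = (θ : M → ℂ) := fun g =>
      (Clifford.Basic.mem_inertia M).1 (Subgroup.index_eq_one.1 ht1 ▸ Subgroup.mem_top g)
    have h' := Clifford.Basic.restrict_eq_smul M χ.2 θ hθin hinv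
    rw [he', he1, Nat.cast_one, one_smul] at h'
    refine hirr ((isIrreducible_iff_classInner_self ρM).2 ?_)
    rw [hρMc, h']
    exact classInner_self_irr θ
  have hle := C.deg
  have hd8 : 2 * Cfsg.charDegree (θ : M → ℂ) ≤ Cfsg.charDegree (χ : G → ℂ) :=
    hdeg.symm ▸ Nat.mul_le_mul_right _ het
  obtain ⟨h1, -, -, -⟩ := link C hMZ θ (by omega) ha' hb' hne
  have := C.big
  omega

/-- The conjugate of a p-element. -/
theorem pel_conj {a : G} (ha : PEl p a) (g : G) : PEl p (g * a * g⁻¹) :=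
  ha.map (MulAut.conj g).toMonoidHom

/-- No element of order `p` has an eigenvalue of multiplicity nine. -/
theorem no_big (C : Ctx p χ) (hsq : p ^ 2 ∣ Nat.card G) {t : G} (ht : orderOf t = p) (l : ZMod p) :
    mlt p (χ : G → ℂ) t l ≤ 8 := by
  classical
  by_contra hbig
  have hp : p.Prime := Fact.out
  have htp : t ^ p = 1 := by rw [← ht, pow_orderOf_eq_one]
  have htc : t ∉ Subgroup.center G := fun h => C.cen (ht ▸ Subgroup.orderOf_dvd_natCard _ h)
  obtain ⟨g, hg⟩ : ∃ g : G, ¬ Commute t (g * t * g⁻¹) := by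
    by_contra hall
    push Not at hall
    have hconj : ∀ a ∈ Group.conjugatesOfSet ({t} : Set G), ∃ g, a = g * t * g⁻¹ := by
      intro a ha
      obtain ⟨b, hb, hab⟩ := Group.mem_conjugatesOfSet_iff.1 ha
      rw [Set.mem_singleton_iff] at hb
      subst hb
      obtain ⟨g, hg⟩ := isConj_iff.1 hab
      exact ⟨g, hg.symm⟩
    set A := Subgroup.normalClosure ({t} : Set G) with hA
    have hcomm : ∀ a ∈ A, ∀ b ∈ A, Commute a b := by
      intro a ha b hb
      refine Subgroup.closure_induction₂ (p := fun u v _ _ => Commute u v) ?_ ?_ ?_ ?_ ?_ ?_ ?_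
        ha hb
      · intro u v hu hv
        obtain ⟨g, rfl⟩ := hconj u hu
        obtain ⟨k, rfl⟩ := hconj v hv
        have h1 := (hall (g⁻¹ * k)).map (MulAut.conj g).toMonoidHom
        simp only [MulEquiv.coe_toMonoidHom, MulAut.conj_apply] at h1
        rwa [show g * (g⁻¹ * k * t * (g⁻¹ * k)⁻¹) * g⁻¹ = k * t * k⁻¹ by group] at h1
      · exact fun _ _ => Commute.one_left _
      · exact fun _ _ => Commute.one_right _
      · exact fun _ _ _ _ _ _ h1 h2 => h1.mul_left h2
      · exact fun _ _ _ _ _ _ h1 h2 => h1.mul_right h2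
      · exact fun _ _ _ _ h1 => h1.inv_left
      · exact fun _ _ _ _ h1 => h1.inv_right
    have hpel : ∀ a ∈ A, a ^ p = 1 := by
      intro a ha
      refine Subgroup.closure_induction (p := fun u _ => u ^ p = 1) ?_ (one_pow p) ?_ ?_ ha
      · intro u hu
        obtain ⟨g, rfl⟩ := hconj u hu
        rw [conj_pow, htp, mul_one, mul_inv_cancel]
      · intro u v hu hv h1 h2
        rw [(hcomm u hu v hv).mul_pow, h1, h2, one_mul]
      · intro u _ h1
        rw [inv_pow, h1, inv_one]
    have hAp : IsPGroup p A := fun a => ⟨1, Subtype.ext (by simpa using hpel a a.2)⟩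
    haveI : A.Normal := Subgroup.normalClosure_normal
    have htA : t ∈ A := Subgroup.subset_normalClosure rfl
    have hcen : Subgroup.centralizer (A : Set G) = ⊤ := no_proper C hsq _ fun a ha => by
      rw [Subgroup.mem_centralizer_iff]
      intro u hu
      obtain ⟨Q, hQ⟩ := ha.isPGroup_zpowers.exists_le_sylow
      have hAQ : A ≤ (Q : Subgroup G) := by
        have := Q.is_maximal' (hAp.to_sup_of_normal_left Q.2) le_sup_right
        exact this ▸ le_sup_left
      exact (comm_of_pgroup C Q.2 (hAQ hu) (hQ (Subgroup.mem_zpowers a))).eq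
    refine htc (Subgroup.mem_center_iff.2 fun b => ?_)
    exact (Subgroup.mem_centralizer_iff.1 (hcen ▸ Subgroup.mem_top b) t htA).symm
  set t' := g * t * g⁻¹ with ht'
  set H := Subgroup.closure ({t, t'} : Set G) with hH
  have htH : t ∈ H := Subgroup.subset_closure (by simp)
  have ht'H : t' ∈ H := Subgroup.subset_closure (by simp)
  have ht'p : t' ^ p = 1 := by rw [ht', conj_pow, htp, mul_one, mul_inv_cancel]
  by_cases htop : H ⊔ Subgroup.center G = ⊤
  · -- a common eigenvector
    obtain ⟨d, ρ, hρ, hρχ⟩ := exists_rep χ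
    haveI := hρ
    obtain ⟨W, hW, hWm⟩ := exists_eigen ρ htp l
    obtain ⟨W', hW', hW'm⟩ := exists_eigen ρ ht'p l
    rw [hρχ] at hW hW'
    rw [ht', mlt_conj (isClassFunction_irr χ)] at hW'
    have hd : d ≤ 16 := by
      have h0 : (χ : G → ℂ) 1 = d := by
        rw [← hρχ, Representation.char_one, Module.finrank_fin_fun]
      rw [DegreeBounds.Basic.charDegree_irr] at h0
      have h1 : Cfsg.charDegree (χ : G → ℂ) = d := by exact_mod_cast h0
      exact h1 ▸ C.deg
    have hne : W ⊓ W' ≠ ⊥ := by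
      intro h0
      have h1 := Submodule.finrank_sup_add_finrank_inf_eq W W'
      rw [h0, finrank_bot, add_zero, hW, hW'] at h1
      have h2 := Submodule.finrank_le (W ⊔ W')
      rw [Module.finrank_fin_fun] at h2
      omega
    rcases eq_bot_or_top ρ (T := ({t, t'} : Set G) ∪ (Subgroup.center G : Set G)) (by
      rw [Subgroup.closure_union, Subgroup.closure_eq, ← hH, htop]) (W ⊓ W') (by
      rintro s (hs | hs) w hw
      · rcases hs with rfl | hs
        · rw [(hWm w).1 hw.1]
          exact Submodule.smul_mem _ _ hw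
        · rw [Set.mem_singleton_iff] at hs
          subst hs
          rw [(hW'm w).1 hw.2]
          exact Submodule.smul_mem _ _ hw
      · rw [FeitSmall.Budget.rho_center ρ hρχ hs, LinearMap.smul_apply, Module.End.one_apply]
        exact Submodule.smul_mem _ _ hw) with h | h
    · exact hne h
    · refine htc (Subgroup.mem_center_iff.2 fun b => ?_)
      have hs : ρ t = chr p l • 1 := LinearMap.ext fun w => by
        rw [(hWm w).1 (h.symm ▸ Submodule.mem_top : w ∈ W ⊓ W').1, LinearMap.smul_apply,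
          Module.End.one_apply]
      have h1 : ρ (b * t * (t * b)⁻¹) = ρ 1 := by
        have h0 : ρ (b * t) = ρ (t * b) := by
          rw [map_mul, map_mul, hs, mul_smul_comm, smul_mul_assoc, one_mul, mul_one]
        rw [map_mul, h0, ← map_mul, mul_inv_cancel]
      exact mul_inv_eq_one.1 (C.faith _ (by
        rw [← hρχ, Representation.character, Representation.character, h1]))
  · obtain ⟨n, hexp, hsum⟩ := exists_expand H (isCharacter_irr χ)
    obtain ⟨θ, hθ, hne⟩ := exists_separating C.faith H hexp (a := ⟨t, htH⟩) (b := ⟨t', ht'H⟩) hg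
    have htp' : (⟨t, htH⟩ : H) ^ p = 1 := Subtype.ext htp
    obtain ⟨-, h2, -, -⟩ := link C htop θ ((deg_le hsum hθ).trans C.deg)
      (PEl.of_pow_eq_one htp') (PEl.of_pow_eq_one (Subtype.ext ht'p : (⟨t', ht'H⟩ : H) ^ p = 1)) hne
    obtain ⟨hcard, -⟩ := h2 ⟨t, htH⟩ htp' fun hs => hne (hs.commutator _)
    have hsub : supp p (θ : H → ℂ) ⟨t, htH⟩ ⊆ supp p (χ : G → ℂ) t := fun m hm => by
      rw [mem_supp] at hm ⊢
      have := mlt_le (p := p) hexp htp' hθ m
      simp only at this
      omega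
    have h9 : 9 ≤ (supp p (χ : G → ℂ) t).card := by
      have := Finset.card_le_card hsub
      have := C.big
      omega
    have hsumχ := sum_mlt (isCharacter_irr χ) htp
    have hle := C.deg
    rw [← Finset.add_sum_erase _ _ (Finset.mem_univ l)] at hsumχ
    have h8 : ((supp p (χ : G → ℂ) t).erase l).card ≤
        ∑ m ∈ Finset.univ.erase l, mlt p (χ : G → ℂ) t m := by
      rw [Finset.card_eq_sum_ones]
      refine le_trans (Finset.sum_le_sum fun m hm => ?_)
        (Finset.sum_le_sum_of_subset (Finset.erase_subset_erase l (Finset.subset_univ _)))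
      exact Nat.one_le_iff_ne_zero.2 (mem_supp.1 (Finset.mem_of_mem_erase hm))
    have := Finset.pred_card_le_card_erase (s := supp p (χ : G → ℂ) t) (a := l)
    omega

/-- p-elements centralizing an element of order `p` commute. -/
theorem commute_cent (C : Ctx p χ) (hsq : p ^ 2 ∣ Nat.card G) {t : G} (ht : orderOf t = p)
    {a b : G} (ha : PEl p a) (hb : PEl p b) (hta : Commute t a) (htb : Commute t b) :
    Commute a b := by
  classical
  by_contra hab
  set H := Subgroup.centralizer ({t} : Set G) with hH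
  have haH : a ∈ H := Subgroup.mem_centralizer_singleton_iff.2 hta.eq.symm
  have hbH : b ∈ H := Subgroup.mem_centralizer_singleton_iff.2 htb.eq.symm
  have htH : t ∈ H := Subgroup.mem_centralizer_singleton_iff.2 rfl
  have htop : H ⊔ Subgroup.center G ≠ ⊤ := by
    rw [sup_eq_left.2 (Subgroup.center_le_centralizer _)]
    intro e
    refine C.cen (ht ▸ Subgroup.orderOf_dvd_natCard _ (Subgroup.mem_center_iff.2 fun g => ?_))
    exact Subgroup.mem_centralizer_singleton_iff.1 (by rw [hH, e]; exact Subgroup.mem_top g : g ∈ H)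
  obtain ⟨n, hexp, hsum⟩ := exists_expand H (isCharacter_irr χ)
  obtain ⟨θ, hθ, hne⟩ := exists_separating C.faith H hexp (a := ⟨a, haH⟩) (b := ⟨b, hbH⟩) hab
  have haP : PEl p (⟨a, haH⟩ : H) := by
    obtain ⟨k, hk⟩ := ha
    exact ⟨k, Subtype.ext (by simpa using hk)⟩
  have hbP : PEl p (⟨b, hbH⟩ : H) := by
    obtain ⟨k, hk⟩ := hb
    exact ⟨k, Subtype.ext (by simpa using hk)⟩
  obtain ⟨h1, -, -, -⟩ := link C htop θ ((deg_le hsum hθ).trans C.deg) haP hbP hne
  have htp : t ^ p = 1 := by rw [← ht, pow_orderOf_eq_one]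
  have htc : (⟨t, htH⟩ : H) ∈ Subgroup.center H := Subgroup.mem_center_iff.2 fun g =>
    Subtype.ext (Subgroup.mem_centralizer_singleton_iff.1 g.2)
  obtain ⟨l₀, hl₀⟩ := exists_full (scal_center θ htc) (Subtype.ext htp : (⟨t, htH⟩ : H) ^ p = 1)
  have h2 := mlt_le (p := p) hexp (Subtype.ext htp : (⟨t, htH⟩ : H) ^ p = 1) hθ l₀
  have h3 : mlt p (χ : G → ℂ) t l₀ ≤ 8 := no_big C hsq ht l₀
  have := C.big
  simp only at h2
  omega

/-- The Sylow subgroups are trivial intersection subgroups. -/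
theorem sylow_eq (C : Ctx p χ) (hsq : p ^ 2 ∣ Nat.card G) (P Q : Sylow p G) {u : G}
    (huP : u ∈ (P : Subgroup G)) (huQ : u ∈ (Q : Subgroup G)) (hu : u ≠ 1) : P = Q := by
  obtain ⟨k, hk⟩ := (PEl.of_mem P.2 huP).exists_order hu
  have hP : u ^ p ^ k ∈ (P : Subgroup G) := pow_mem huP _
  have hQ : u ^ p ^ k ∈ (Q : Subgroup G) := pow_mem huQ _
  refine Sylow.ext (le_antisymm ?_ ?_)
  · intro w hw
    exact mem_sylow (PEl.of_mem P.2 hw) fun v hv => commute_cent C hsq hk (PEl.of_mem Q.2 hv)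
      (PEl.of_mem P.2 hw) (comm_of_pgroup C Q.2 hQ hv) (comm_of_pgroup C P.2 hP hw)
  · intro w hw
    exact mem_sylow (PEl.of_mem Q.2 hw) fun v hv => commute_cent C hsq hk (PEl.of_mem P.2 hv)
      (PEl.of_mem Q.2 hw) (comm_of_pgroup C P.2 hP hv) (comm_of_pgroup C Q.2 hQ hw)

/-- Some noncentral element commutes with two noncommuting p-elements. -/
theorem exists_bad (C : Ctx p χ) (hsq : p ^ 2 ∣ Nat.card G) :
    ∃ g a b : G, g ∉ Subgroup.center G ∧ PEl p a ∧ PEl p b ∧ Commute g a ∧ Commute g b ∧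
      ¬ Commute a b := by
  classical
  have hp : p.Prime := Fact.out
  by_contra hcon
  push Not at hcon
  haveI := Fintype.ofFinite G
  obtain ⟨P, -⟩ := (IsPGroup.of_bot (p := p) (G := G)).exists_le_sylow
  haveI := Fintype.ofFinite (P : Subgroup G)
  have hconjS : ∀ a : G, ∃ Q : Sylow p G,
      (Q : Subgroup G) = (P : Subgroup G).map (MulAut.conj a).toMonoidHom := fun a =>
    ⟨P.mapSurjective (f := (MulAut.conj a).toMonoidHom) (MulAut.conj a).surjective, rfl⟩
  have hS : Brauer.TIBound.Setting (P : Subgroup G) := by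
    refine ⟨fun a ha b hb => (comm_of_pgroup C P.2 ha hb).eq, ?_, fun g hg a b hA hB => ?_⟩
    · rw [eq_bot_iff]
      rintro u ⟨hu1, hu2⟩
      rw [Subgroup.mem_bot]
      by_contra hne
      obtain ⟨k, hk⟩ := (PEl.of_mem P.2 hu1).exists_order hne
      exact C.cen (hk ▸ Subgroup.orderOf_dvd_natCard _ (pow_mem hu2 _))
    · obtain ⟨Qa, hQa⟩ := hconjS a
      obtain ⟨Qb, hQb⟩ := hconjS b
      rw [← hQa] at hA ⊢
      rw [← hQb] at hB ⊢
      obtain ⟨u, hu, hu0⟩ := (Subgroup.bot_or_exists_ne_one _).resolve_left hA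
      obtain ⟨w, hw, hw0⟩ := (Subgroup.bot_or_exists_ne_one _).resolve_left hB
      have hug : Commute g u :=
        (Subgroup.mem_centralizer_singleton_iff.1 hu.1).symm
      have hwg : Commute g w :=
        (Subgroup.mem_centralizer_singleton_iff.1 hw.1).symm
      have huw : Commute u w := hcon g u w hg (PEl.of_mem Qa.2 hu.2) (PEl.of_mem Qb.2 hw.2) hug hwg
      obtain ⟨k, hk⟩ := (PEl.of_mem Qa.2 hu.2).exists_order hu0
      have hwQ : w ∈ (Qa : Subgroup G) := mem_sylow (PEl.of_mem Qb.2 hw.2) fun v hv =>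
        commute_cent C hsq hk (PEl.of_mem Qa.2 hv) (PEl.of_mem Qb.2 hw.2)
          (comm_of_pgroup C Qa.2 (pow_mem hu.2 _) hv) (huw.pow_left _)
      rw [sylow_eq C hsq Qa Qb hwQ hw.2 hw0]
  have hne1 : (χ : G → ℂ) 1 ≠ 1 := by
    intro h1
    obtain ⟨a, b, -, -, hab⟩ := C.nc
    apply hab
    have h2 := Characters.Linear.apply_mul_of_degree_one (isCharacter_irr χ) h1
    have h3 : (χ : G → ℂ) (a * b * (b * a)⁻¹) = (χ : G → ℂ) 1 := by
      rw [h2, show (χ : G → ℂ) (a * b) = (χ : G → ℂ) (b * a) by rw [h2, h2, mul_comm], ← h2,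
        mul_inv_cancel]
    exact mul_inv_eq_one.1 (C.faith _ h3)
  have hb := Brauer.TIBound.bound_two hS χ.2 hne1 fun M hM hle => by
    haveI := hM
    refine no_proper C hsq M fun a ha => ?_
    obtain ⟨Q, hQ⟩ := ha.isPGroup_zpowers.exists_le_sylow
    obtain ⟨c, hc⟩ := MulAction.exists_smul_eq G P Q
    have h1 := hQ (Subgroup.mem_zpowers a)
    rw [← hc, Sylow.coe_subgroup_smul, Subgroup.mem_smul_pointwise_iff_exists] at h1
    obtain ⟨v, hv, rfl⟩ := h1
    exact hM.conj_mem v (hle hv) c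
  rw [DegreeBounds.Basic.charDegree_irr, Complex.natCast_re] at hb
  have h1 : p ^ 2 ≤ Nat.card (P : Subgroup G) :=
    Nat.le_of_dvd Nat.card_pos (P.pow_dvd_card_of_pow_dvd_card hsq)
  have h2 : (Cfsg.charDegree (χ : G → ℂ) : ℝ) ≤ 16 := by exact_mod_cast C.deg
  have h3 : (19 : ℝ) ≤ p := by exact_mod_cast C.big
  have h4 : ((p : ℝ)) ^ 2 ≤ Nat.card (P : Subgroup G) := by exact_mod_cast h1
  have h5 : (0 : ℝ) ≤ (Cfsg.charDegree (χ : G → ℂ) : ℝ) := Nat.cast_nonneg _
  nlinarith

set_option maxHeartbeats 800000 in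
/-- The inductive step. -/
theorem step (C : Ctx p χ) : ¬ p ^ 2 ∣ Nat.card G := by
  classical
  intro hsq
  have hp : p.Prime := Fact.out
  have hbig := C.big
  obtain ⟨g, a, b, hg, ha, hb, hga, hgb, hab⟩ := exists_bad C hsq
  set S : Set G := {u | PEl p u ∧ Commute g u} with hS
  set H := Subgroup.closure S with hH
  have hHg : ∀ h ∈ H, Commute g h := fun h hh => by
    have : H ≤ Subgroup.centralizer ({g} : Set G) := (Subgroup.closure_le _).2 fun u hu =>
      Subgroup.mem_centralizer_singleton_iff.2 hu.2.eq.symm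
    exact (Subgroup.mem_centralizer_singleton_iff.1 (this hh)).symm
  have htop : H ⊔ Subgroup.center G ≠ ⊤ := by
    intro e
    refine hg (Subgroup.mem_center_iff.2 fun w => ?_)
    have hle : H ⊔ Subgroup.center G ≤ Subgroup.centralizer ({g} : Set G) := sup_le
      (fun v hv => Subgroup.mem_centralizer_singleton_iff.2 (hHg v hv).eq.symm)
      (Subgroup.center_le_centralizer _)
    rw [e] at hle
    exact Subgroup.mem_centralizer_singleton_iff.1 (hle (Subgroup.mem_top w))
  have hpelH : ∀ {u : G}, PEl p u → Commute g u → ∃ hu : u ∈ H, PEl p (⟨u, hu⟩ : H) := by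
    intro u hu hgu
    refine ⟨Subgroup.subset_closure ⟨hu, hgu⟩, ?_⟩
    obtain ⟨k, hk⟩ := hu
    exact ⟨k, Subtype.ext (by simpa using hk)⟩
  obtain ⟨haH, haP⟩ := hpelH ha hga
  obtain ⟨hbH, hbP⟩ := hpelH hb hgb
  obtain ⟨n, hexp, hsum⟩ := exists_expand H (isCharacter_irr χ)
  obtain ⟨θ, hθ, hne⟩ := exists_separating C.faith H hexp (a := ⟨a, haH⟩) (b := ⟨b, hbH⟩) hab
  obtain ⟨hd, hcount, hpair, hsquare⟩ := link C htop θ ((deg_le hsum hθ).trans C.deg) haP hbP hne
  have hns : ∀ t : H, orderOf (t : G) = p → ¬ Scal (θ : H → ℂ) t := by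
    intro t ht hs
    have htp : t ^ p = 1 := Subtype.ext (by
      rw [SubgroupClass.coe_pow, ← ht, pow_orderOf_eq_one, OneMemClass.coe_one])
    obtain ⟨l₀, hl₀⟩ := exists_full hs htp
    have h1 := mlt_le (p := p) hexp htp hθ l₀
    have h2 := no_big C hsq ht l₀
    omega
  -- an element of order `p`
  have ha1 : a ≠ 1 := fun e => hab (e ▸ Commute.one_left b)
  obtain ⟨k, hk⟩ := ha.exists_order ha1
  set x := a ^ p ^ k with hx
  have hxp : x ^ p = 1 := by rw [← hk, pow_orderOf_eq_one]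
  have hgx : Commute g x := hga.pow_right _
  obtain ⟨hxH, hxP⟩ := hpelH (PEl.of_pow_eq_one hxp) hgx
  set x' : H := ⟨x, hxH⟩
  have hxp' : x' ^ p = 1 := Subtype.ext hxp
  have hxo' : orderOf x' = p := by rw [← Subgroup.orderOf_coe]; exact hk
  have honly : ∀ {u : G}, PEl p u → Commute g u → Commute x u → u ∈ Subgroup.zpowers x := by
    intro u hu hgu hxu
    have hup : u ^ p = 1 := by
      by_contra hne'
      obtain ⟨j, hj⟩ := hu.exists_order (fun e => hne' (by rw [e, one_pow]))
      rcases j with _ | j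
      · rw [pow_zero, pow_one] at hj
        exact hne' (by rw [← hj, pow_orderOf_eq_one])
      · obtain ⟨hvH, -⟩ := hpelH (hu.pow (p ^ j)) (hgu.pow_right _)
        have h5 : (u ^ p ^ (j + 1)) ^ p = 1 := orderOf_dvd_iff_pow_eq_one.1 (dvd_of_eq hj)
        have hv2 : (⟨u ^ p ^ j, hvH⟩ : H) ^ p ^ 2 = 1 := Subtype.ext (by
          rw [SubgroupClass.coe_pow, OneMemClass.coe_one, ← pow_mul,
            show p ^ j * p ^ 2 = p ^ (j + 1) * p by ring, pow_mul, h5])
        refine hns (⟨u ^ p ^ j, hvH⟩ ^ p) ?_ (hsquare _ hv2)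
        rw [SubgroupClass.coe_pow, ← pow_mul, ← pow_succ]
        exact hj
    obtain ⟨huH, -⟩ := hpelH hu hgu
    obtain ⟨i, hi⟩ := hpair x' ⟨u, huH⟩ hxp' (Subtype.ext hup) (Subtype.ext hxu.eq) (hns x' hk)
    have hwp : (u * x ^ i) ^ p = 1 := by
      rw [(hxu.symm.pow_right i).mul_pow, hup, one_mul, ← pow_mul, mul_comm, pow_mul, hxp, one_pow]
    have hw1 : u * x ^ i = 1 := by
      by_contra hw
      exact hns _ (orderOf_eq_prime hwp hw) hi
    rw [eq_inv_of_mul_eq_one_left hw1]
    exact inv_mem (pow_mem (Subgroup.mem_zpowers x) i)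
  -- the Sylow subgroup of `H`
  obtain ⟨R, hR⟩ := (PEl.of_pow_eq_one hxp').isPGroup_zpowers.exists_le_sylow
  have hRle : ∀ r ∈ (R : Subgroup H), r ∈ Subgroup.zpowers x' := by
    intro r hr
    have h1 := comm_of_pgroup C (R.2.map H.subtype) (Subgroup.mem_map_of_mem _ (hR
      (Subgroup.mem_zpowers x'))) (Subgroup.mem_map_of_mem _ hr)
    obtain ⟨i, hi⟩ := honly ((PEl.of_mem R.2 hr).map H.subtype) (hHg r r.2) h1
    exact ⟨i, Subtype.ext (by simpa using hi)⟩
  have hReq : (R : Subgroup H) = Subgroup.zpowers x' := le_antisymm hRle hR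
  obtain ⟨c, j, hcj, hj1⟩ : ∃ (c : H) (j : ZMod p), c * x' * c⁻¹ = x' ^ j.val ∧ j ≠ 1 := by
    by_contra hcon
    push Not at hcon
    have hN : Subgroup.normalizer ((R : Subgroup H) : Set H) ≤
        Subgroup.centralizer ((R : Subgroup H) : Set H) := by
      intro c hc
      have h1 := (Subgroup.mem_normalizer_iff.1 hc x').1 (hR (Subgroup.mem_zpowers x'))
      rw [hReq] at h1
      obtain ⟨j, hj⟩ := (mem_zpowers_iff_val hxp').1 h1
      have hj1 := hcon c j hj.symm
      rw [hj1, pow_val_one hxp'] at hj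
      rw [Subgroup.mem_centralizer_iff]
      intro r hr
      obtain ⟨i, rfl⟩ := hRle r hr
      have hcx : Commute c x' := (mul_inv_eq_iff_eq_mul.1 hj.symm)
      exact ((hcx.zpow_right i).symm).eq
    set K := (MonoidHom.transferSylow R hN).ker with hK
    have hKp : ¬ p ∣ Nat.card K := MonoidHom.not_dvd_card_ker_transferSylow R hN
    have hcx : ∀ k ∈ K, k * x' = x' * k :=
      FeitSmall.Half.centralizes hxo' hKp (isCharacter_comp H.subtype (isCharacter_irr χ))
        (fun h hh => Subtype.ext (C.faith _ (by simpa using hh))) (by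
          have h1 : Cfsg.charDegree ((χ : G → ℂ) ∘ H.subtype) = Cfsg.charDegree (χ : G → ℂ) :=
            BlocksChars5.Basic.charDegree_congr (by simp)
          rw [h1]
          have := C.deg
          omega)
    obtain ⟨⟨⟨k1, hk1⟩, ⟨r1, hr1⟩⟩, h1⟩ :=
      (MonoidHom.ker_transferSylow_isComplement' R hN).2 (⟨a, haH⟩ : H)
    obtain ⟨⟨⟨k2, hk2⟩, ⟨r2, hr2⟩⟩, h2⟩ :=
      (MonoidHom.ker_transferSylow_isComplement' R hN).2 (⟨b, hbH⟩ : H)
    have hcomm : ∀ k ∈ K, ∀ r ∈ (R : Subgroup H), Commute x' (k * r) := fun k hk r hr => by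
      obtain ⟨i, rfl⟩ := hRle r hr
      exact Commute.mul_right (hcx k hk).symm ((Commute.refl x').zpow_right i)
    have e1 : Commute x' (⟨a, haH⟩ : H) := h1 ▸ hcomm k1 hk1 r1 hr1
    have e2 : Commute x' (⟨b, hbH⟩ : H) := h2 ▸ hcomm k2 hk2 r2 hr2
    exact hab (commute_cent C hsq hk ha hb (congrArg Subtype.val e1.eq)
      (congrArg Subtype.val e2.eq))
  have hj0 : j ≠ 0 := fun e => by
    rw [e, ZMod.val_zero, pow_zero, conj_eq_one_iff] at hcj
    rw [hcj, orderOf_one] at hxo'
    exact hp.one_lt.ne hxo'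
  have hinv : ∀ l, mlt p (θ : H → ℂ) x' (j * l) = mlt p (θ : H → ℂ) x' l := fun l => by
    rw [← mlt_conj (isClassFunction_irr θ) c (j * l), hcj, mlt_pow (isCharacter_irr θ) hxp' hj0]
  obtain ⟨-, hT⟩ := hcount x' hxp' (hns x' hk)
  set T := Finset.univ.filter fun l => l ≠ 0 ∧ mlt p (θ : H → ℂ) x' l = 1 with hTdef
  have hT9 : 9 ≤ T.card := hT j hj1 hj0 hinv
  -- the other constituents
  have hdθ : 9 ≤ Cfsg.charDegree (θ : H → ℂ) := by omega
  have hn1 : n θ = 1 ∧ ∀ θ', θ' ≠ θ → n θ' ≠ 0 → Cfsg.charDegree (θ' : H → ℂ) ≤ 7 := by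
    have h1 := hsum
    rw [← Finset.add_sum_erase _ _ (Finset.mem_univ θ)] at h1
    have hle := C.deg
    constructor
    · by_contra hne1
      have h2 := Nat.mul_le_mul_right (Cfsg.charDegree (θ : H → ℂ)) (show 2 ≤ n θ by omega)
      omega
    · intro θ' hne' hn'
      have h2 := Nat.mul_le_mul_right (Cfsg.charDegree (θ : H → ℂ)) (Nat.one_le_iff_ne_zero.2 hθ)
      have h3 := Finset.single_le_sum
        (f := fun φ : Cfsg.IrrCharacter H => n φ * Cfsg.charDegree (φ : H → ℂ))
        (fun _ _ => Nat.zero_le _) (Finset.mem_erase.2 ⟨hne', Finset.mem_univ θ'⟩)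
      have h4 := Nat.le_mul_of_pos_left (Cfsg.charDegree (θ' : H → ℂ)) (Nat.pos_of_ne_zero hn')
      omega
  have hother : ∀ θ', θ' ≠ θ → n θ' ≠ 0 → ∀ l, l ≠ 0 → mlt p (θ' : H → ℂ) x' l = 0 := by
    intro θ' hne' hn' l hl
    have hd7 := hn1.2 θ' hne' hn'
    have hcomm : ∀ u v : H, PEl p u → PEl p v →
        (θ' : H → ℂ) (u * v * u⁻¹ * v⁻¹) = (θ' : H → ℂ) 1 := by
      intro u v hu hv
      by_contra hne2
      obtain ⟨h1, -⟩ := link C htop θ' (by omega) hu hv hne2
      omega
    haveI := BlocksChars5.Basic.charKer_normal θ'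
    set N := BlocksChars5.Basic.charKer θ'
    have hq : ∀ u v : H, Commute (u : H ⧸ N) (v : H ⧸ N) := by
      have hclo : Subgroup.closure (Subtype.val ⁻¹' S : Set H) = ⊤ :=
        Subgroup.closure_closure_coe_preimage
      have hbase : ∀ u ∈ (Subtype.val ⁻¹' S : Set H), ∀ v ∈ (Subtype.val ⁻¹' S : Set H),
          Commute (u : H ⧸ N) (v : H ⧸ N) := by
        intro u hu v hv
        have hu' : PEl p u := by
          obtain ⟨k, hk⟩ := hu.1
          exact ⟨k, Subtype.ext (by simpa using hk)⟩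
        have hv' : PEl p v := by
          obtain ⟨k, hk⟩ := hv.1
          exact ⟨k, Subtype.ext (by simpa using hk)⟩
        have h1 : ((u * v * u⁻¹ * v⁻¹ : H) : H ⧸ N) = 1 :=
          (QuotientGroup.eq_one_iff _).2
            ((BlocksChars5.Basic.mem_charKer θ' _).2 (hcomm u v hu' hv'))
        rw [QuotientGroup.mk_mul, QuotientGroup.mk_mul, QuotientGroup.mk_mul, QuotientGroup.mk_inv,
          QuotientGroup.mk_inv, mul_inv_eq_one, mul_inv_eq_iff_eq_mul] at h1
        exact h1
      intro u v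
      refine Subgroup.closure_induction₂ (k := (Subtype.val ⁻¹' S : Set H))
        (p := fun (a b : H) _ _ => Commute (a : H ⧸ N) (b : H ⧸ N))
        (fun (a b : H) ha hb => hbase a ha b hb)
        (fun _ _ => by rw [QuotientGroup.mk_one]; exact Commute.one_left _)
        (fun _ _ => by rw [QuotientGroup.mk_one]; exact Commute.one_right _)
        (fun _ _ _ _ _ _ h1 h2 => by rw [QuotientGroup.mk_mul]; exact h1.mul_left h2)
        (fun _ _ _ _ _ _ h1 h2 => by rw [QuotientGroup.mk_mul]; exact h1.mul_right h2)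
        (fun _ _ _ _ h1 => by rw [QuotientGroup.mk_inv]; exact h1.inv_left)
        (fun _ _ _ _ h1 => by rw [QuotientGroup.mk_inv]; exact h1.inv_right)
        (hclo ▸ Subgroup.mem_top u) (hclo ▸ Subgroup.mem_top v)
    have hx1 : x' ∈ N := by
      have h1 : ((c * x' * c⁻¹ * x'⁻¹ : H) : H ⧸ N) = 1 := by
        rw [QuotientGroup.mk_mul, QuotientGroup.mk_mul, QuotientGroup.mk_mul, (hq c x').eq,
          QuotientGroup.mk_inv, QuotientGroup.mk_inv, mul_inv_cancel_right, mul_inv_cancel]
      have h2 := (QuotientGroup.eq_one_iff _).1 h1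
      have h3 : c * x' * c⁻¹ * x'⁻¹ = x' ^ (j - 1).val := by
        rw [hcj, mul_inv_eq_iff_eq_mul]
        conv_rhs => arg 2; rw [← pow_val_one hxp']
        rw [← pow_val_add hxp', sub_add_cancel]
      rw [h3] at h2
      have h4 := pow_mem h2 ((j - 1)⁻¹).val
      rwa [← pow_val_mul hxp', mul_inv_cancel₀ (sub_ne_zero.2 hj1), pow_val_one hxp'] at h4
    rw [mlt_eq (c := fun l => if l = 0 then Cfsg.charDegree (θ' : H → ℂ) else 0) fun z => ?_,
      if_neg hl]
    rw [(BlocksChars5.Basic.mem_charKer θ' _).1 (pow_mem hx1 z.val),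
      DegreeBounds.Basic.charDegree_irr]
    simp [Finset.sum_ite_eq', chr_zero]
  have hsimple : ∀ l ∈ T, mlt p (χ : G → ℂ) x l = 1 := by
    intro l hl
    obtain ⟨-, hl0, hl1⟩ := Finset.mem_filter.1 hl
    rw [show x = ((x' : H) : G) from rfl, mlt_restrict hexp hxp',
      Finset.sum_eq_single θ (fun θ' _ hne' => ?_) (by simp), hn1.1, hl1, mul_one]
    by_cases hn' : n θ' = 0
    · rw [hn', zero_mul]
    · rw [hother θ' hne' hn' l hl0, mul_zero]
  -- a commutator fixing nine eigenlines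
  obtain ⟨Q, hQ⟩ := (PEl.of_pow_eq_one hxp).isPGroup_zpowers.exists_le_sylow
  have hxQ : x ∈ (Q : Subgroup G) := hQ (Subgroup.mem_zpowers x)
  obtain ⟨u, huQ, hux⟩ : ∃ u ∈ (Q : Subgroup G), u ∉ Subgroup.zpowers x := by
    by_contra hcon
    push Not at hcon
    have h1 := Nat.le_of_dvd Nat.card_pos (P_dvd (Q := Q) hsq)
    have h2 : Nat.card (Q : Subgroup G) ≤ p :=
      (Nat.le_of_dvd Nat.card_pos (Subgroup.card_dvd_of_le hcon)).trans_eq
        (by rw [Nat.card_zpowers, hk])
    have h3 : p < p ^ 2 := by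
      calc p = p ^ 1 := (pow_one p).symm
        _ < p ^ 2 := Nat.pow_lt_pow_right hp.one_lt (by omega)
    omega
  have huP := PEl.of_mem Q.2 huQ
  have hxu : Commute x u := comm_of_pgroup C Q.2 hxQ huQ
  have hxgu : Commute x (g * u * g⁻¹) := by
    have := hxu.map (MulAut.conj g).toMonoidHom
    simp only [MulEquiv.coe_toMonoidHom, MulAut.conj_apply] at this
    rwa [hgx.eq, mul_inv_cancel_right] at this
  have hguQ : g * u * g⁻¹ ∈ (Q : Subgroup G) := mem_sylow (pel_conj huP g) fun v hv =>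
    commute_cent C hsq hk (PEl.of_mem Q.2 hv) (pel_conj huP g) (comm_of_pgroup C Q.2 hxQ hv) hxgu
  set w := g * u * g⁻¹ * u⁻¹ with hw
  have hwQ : w ∈ (Q : Subgroup G) := mul_mem hguQ (inv_mem huQ)
  have hw1 : w ≠ 1 := by
    intro e
    rw [hw, mul_inv_eq_one, mul_inv_eq_iff_eq_mul] at e
    exact hux (honly huP e hxu)
  obtain ⟨i, hi⟩ := (PEl.of_mem Q.2 hwQ).exists_order hw1
  obtain ⟨d, ρ, hρ, hρχ⟩ := exists_rep χ
  have hvec : ∀ l : T, ∃ v : Fin d → ℂ, Module.End.HasEigenvector (ρ x) (chr p (l : ZMod p)) v ∧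
      ρ w v = v := by
    intro l
    obtain ⟨W, hW, hWm⟩ := exists_eigen ρ hxp (l : ZMod p)
    rw [hρχ, hsimple l l.2] at hW
    obtain ⟨v, hv0, hv⟩ := finrank_eq_one_iff'.1 hW
    have hv0' : (v : Fin d → ℂ) ≠ 0 := fun e => hv0 (Subtype.ext e)
    have hact : ∀ s : G, Commute x s → ∃ α : ℂ, ρ s v = α • (v : Fin d → ℂ) := by
      intro s hs
      have hmem : ρ s v ∈ W := (hWm _).2 (by
        rw [← Module.End.mul_apply, ← map_mul, hs.eq, map_mul, Module.End.mul_apply,
          (hWm _).1 v.2, map_smul])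
      obtain ⟨α, hα⟩ := hv ⟨_, hmem⟩
      exact ⟨α, (congrArg Subtype.val hα).symm⟩
    obtain ⟨α, hα⟩ := hact g hgx.symm
    obtain ⟨β, hβ⟩ := hact u hxu
    refine ⟨v, ⟨Module.End.mem_eigenspace_iff.2 ((hWm _).1 v.2), hv0'⟩, ?_⟩
    have h1 : ρ (g * u) v = (α * β) • (v : Fin d → ℂ) := by
      rw [map_mul, Module.End.mul_apply, hβ, map_smul, hα, smul_smul, mul_comm]
    have h2 : ρ (u * g) v = (α * β) • (v : Fin d → ℂ) := by
      rw [map_mul, Module.End.mul_apply, hα, map_smul, hβ, smul_smul]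
    have h3 : w * (u * g) = g * u := by rw [hw]; group
    have hne0 : α * β ≠ 0 := fun e => hv0' (by
      rw [e, zero_smul] at h2
      have := congrArg (ρ (u * g)⁻¹) h2
      rwa [← Module.End.mul_apply, ← map_mul, inv_mul_cancel, map_one, Module.End.one_apply,
        map_zero] at this)
    rw [← h3, map_mul, Module.End.mul_apply, h2, map_smul] at h1
    exact smul_right_injective _ hne0 h1
  choose v hv hvw using hvec
  have hinj : Function.Injective fun l : T => chr p (l : ZMod p) := fun l m e =>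
    Subtype.ext (ZMod.val_injective p
      ((Periods.root_spec (p := p)).pow_inj (ZMod.val_lt _) (ZMod.val_lt _) e))
  have hli := Module.End.eigenvectors_linearIndependent' (ρ x) _ hinj v hv
  obtain ⟨W0, hW0, hW0m⟩ := exists_eigen ρ (a := w ^ p ^ i)
    (orderOf_dvd_iff_pow_eq_one.1 (dvd_of_eq hi)) (0 : ZMod p)
  have hfix : ∀ l : T, v l ∈ W0 := fun l => (hW0m _).2 (by
    rw [chr_zero, one_smul]
    induction p ^ i with
    | zero => rw [pow_zero, map_one, Module.End.one_apply]
    | succ m ihm => rw [pow_succ, map_mul, Module.End.mul_apply, hvw, ihm])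
  have hli' : LinearIndependent ℂ fun l : T => (⟨v l, hfix l⟩ : W0) :=
    LinearIndependent.of_comp W0.subtype hli
  have h1 := hli'.fintype_card_le_finrank
  rw [Fintype.card_coe, hW0, hρχ] at h1
  have h2 := no_big C hsq hi (0 : ZMod p)
  omega
where
  P_dvd {p : ℕ} [Fact p.Prime] {G : Type u} [Group G] [Finite G] {Q : Sylow p G}
      (h : p ^ 2 ∣ Nat.card G) : p ^ 2 ∣ Nat.card (Q : Subgroup G) :=
    Q.pow_dvd_card_of_pow_dvd_card h

/-- `p` divides the order of a linear group of degree at most 16 at most once. -/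
theorem not_sq_dvd {G : Type u} [Group G] [Finite G] (χ : Cfsg.IrrCharacter G) (hp : 19 ≤ p)
    (hfaith : ∀ g : G, (χ : G → ℂ) g = (χ : G → ℂ) 1 → g = 1)
    (hdeg : Cfsg.charDegree (χ : G → ℂ) ≤ 16) (hcen : ¬ p ∣ Nat.card (Subgroup.center G))
    (hnc : Noncomm p G) : ¬ p ^ 2 ∣ Nat.card G := by
  suffices H : ∀ i j : ℕ, ∀ (K : Type u) [Group K] [Finite K] (φ : Cfsg.IrrCharacter K),
      (Subgroup.center K).index = i → Nat.card K = j →
      (∀ k, (φ : K → ℂ) k = (φ : K → ℂ) 1 → k = 1) → Cfsg.charDegree (φ : K → ℂ) ≤ 16 →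
      ¬ p ∣ Nat.card (Subgroup.center K) → Noncomm p K → ¬ p ^ 2 ∣ Nat.card K from
    H _ _ G χ rfl rfl hfaith hdeg hcen hnc
  intro i
  induction i using Nat.strong_induction_on with
  | _ i ihi =>
    intro j
    induction j using Nat.strong_induction_on with
    | _ j ihj =>
      intro K _ _ φ hi hj hf hd hc hn
      refine step ⟨hp, hf, hd, hc, hn, fun L _ _ ψ hf' hd' hc' hn' hm => ?_⟩
      rcases hm with hm | ⟨hm1, hm2⟩
      · exact ihi _ (hi ▸ hm) _ L ψ rfl rfl hf' hd' hc' hn'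
      · rcases (hi ▸ hm1).lt_or_eq with h | h
        · exact ihi _ h _ L ψ rfl rfl hf' hd' hc' hn'
        · exact ihj _ (hj ▸ hm2) L ψ h rfl hf' hd' hc' hn'

end Cfsg.Agent.Lib.Sixteen80.Prime
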