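import Cfsg.Agent.Lib.Sixteen80.Trivial
import Cfsg.Agent.Lib.Sixteen80.Arith

/-!
# The principal block of a group with a character of degree 16 and `p = 19`

The degrees are `1, 56, 77` and `22`, and on regular elements the product of the character with
its conjugate contains three times the exceptional character of degree `22`.
-/

set_option autoImplicit false
set_option linter.unusedSectionVars false
set_option linter.style.haveILetI false
set_option linter.unusedTactic false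
set_option linter.unreachableTactic false

namespace Cfsg.Agent.Lib.Sixteen80.Principal

open Cfsg.Agent.Lib Cfsg.Agent.Lib.FirstPower Average Periods Cfsg.Agent.Lib.Characters.Basic
open Family (pow_eq_one_of_order)
open Cfsg.Agent.Lib.DegSubTwo.Basic (lam lam_one lam_mul lam_mul_conj apply_mul_central)
open FeitSmall FeitSmall.Setup FeitSmall.Spikes FeitSmall.Eigen
open Cfsg.Agent.Lib.FeitSmall.Slice (Fam exists_family)
open Cfsg.Agent.Lib.FeitSmall.Cyclotomy (negc cyc coef sum_cyc eta_mul_coef)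
open Trivial
open scoped ComplexConjugate

attribute [local instance] BlocksChars5.Basic.irrFintype

universe u

variable [Fact (Nat.Prime 19)] {G : Type u} [Group G] [Finite G] {x : G}
  {ζ : Cfsg.IrrCharacter G} {h : Hyp 19 x ζ}

theorem value_x (χ : Cfsg.IrrCharacter G) :
    (χ : G → ℂ) x = ∑ q, (crd h χ q : ℂ) * eta (ex h) q := by
  have h1 := crd_val h χ 1
  simpa [pow_val_one (pow_eq_one_of_order h.ord)] using h1

theorem sum_eta (h : Hyp 19 x ζ) : ∑ q, eta (ex h) q = -1 := by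
  refine (Finset.sum_congr rfl fun q _ => ?_).trans (sum_eta_shift (ex h) 1)
  rw [mul_one]

theorem value_x_const {χ : Cfsg.IrrCharacter G} {a : ℤ} (ha : ∀ q, crd h χ q = a) :
    (χ : G → ℂ) x = -(a : ℂ) := by
  rw [value_x (h := h), Finset.sum_congr rfl fun q _ => by rw [ha q], ← Finset.mul_sum, sum_eta]
  ring

theorem degree_mod {χ : Cfsg.IrrCharacter G} {a : ℤ} (S : Sit h) (ha : ∀ q, crd h χ q = a) :
    (19 : ℤ) ∣ (Cfsg.charDegree (χ : G → ℂ) : ℤ) + a := by
  obtain ⟨c₀, -, hdeg, -⟩ := exists_degree h χ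
  simp only [ha, S.e_eq, Finset.sum_const, Finset.card_univ, S.t_eq] at hdeg
  exact ⟨c₀ + a, by rw [hdeg]; push_cast; simp only [nsmul_eq_mul]; push_cast; ring⟩

theorem crd_one (h : Hyp 19 x ζ) (q : Cls h) : crd h (oneChar G) q = -1 := by
  refine congrFun (coord_unique h (g := fun _ => -1) fun w => ?_) q
  rw [← crd_val, oneChar_apply, ← Finset.mul_sum, sum_eta_shift]
  norm_num

open scoped Classical in
/-- The trivial slice: the family and two further characters. -/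
structure Princ (S : Sit h) (Y : Cls h → Cfsg.IrrCharacter G) (δ : ℤ)
    (χ χ' : Cfsg.IrrCharacter G) (a a' : ℤ) : Prop where
  fam : Fam h (oneChar G) Y δ
  ne : χ ≠ oneChar G
  ne' : χ' ≠ oneChar G
  yne : ∀ q, Y q ≠ oneChar G
  mem : χ ∈ sl h
  mem' : χ' ∈ sl h
  sgn : a = 1 ∨ a = -1
  sgn' : a' = 1 ∨ a' = -1
  val : ∀ q, crd h χ q = a
  val' : ∀ q, crd h χ' q = a'
  dist : χ ≠ χ'
  off : ∀ q, Y q ≠ χ ∧ Y q ≠ χ'
  expand : ∀ (f : Cfsg.IrrCharacter G → ℂ) (q : Cls h), ∑ ψ ∈ sl h, f ψ * (crd h ψ q : ℂ) =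
    (δ : ℂ) * f (Y q) - f (oneChar G) + (a : ℂ) * f χ + (a' : ℂ) * f χ'

theorem exists_princ (S : Sit h) : ∃ Y δ χ χ' a a', Princ S Y δ χ χ' a a' := by
  classical
  obtain ⟨Y, δ, F⟩ := exists_family h S.std.three (oneChar G)
  have hval : ∀ κ q, crd h (Y κ) q = 0 + if q = κ then δ else 0 := fun κ q => by
    rw [F.val, zero_add]
  obtain ⟨X, hXc, hXs, hXY, hXv⟩ := exists_block h F.inj F.sign F.mem hval F.rest
  rw [S.e_eq] at hXc
  simp only [mul_zero, zero_add] at hXv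
  have hXsq : ∀ χ ∈ X, ∀ q, crd h χ q * crd h χ q = 1 := fun χ hχ q => by
    rcases hXv χ hχ q with e | e <;> rw [e] <;> rcases F.sign with r | r <;> rw [r] <;> norm_num
  have hd : Disjoint (Finset.univ.image Y) X := by
    rw [Finset.disjoint_left]
    rintro _ hκ
    obtain ⟨κ, -, rfl⟩ := Finset.mem_image.1 hκ
    exact hXY κ
  have hsub : Finset.univ.image Y ∪ X ⊆ sl h :=
    Finset.union_subset (Finset.image_subset_iff.2 fun κ _ => F.mem κ) hXs
  have hzero : ∀ χ ∈ sl h, χ ∉ Finset.univ.image Y ∪ X → ∀ q, crd h χ q = 0 := by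
    intro χ hχ hnot q
    have h4 : ∑ ψ ∈ sl h, crd h ψ q * crd h ψ q = 4 := by
      rw [← Finset.sum_coe_sort, slice_crd h (oneChar G) q q, if_pos rfl, S.e_eq]
      norm_num
    rw [← Finset.sum_sdiff hsub, Finset.sum_union hd, Finset.sum_image fun a _ b _ e => F.inj e,
      Finset.sum_congr rfl fun ψ hψ => hXsq ψ hψ q, Finset.sum_const, hXc] at h4
    simp only [F.val, ite_mul, mul_ite, zero_mul, mul_zero, Finset.sum_ite_eq, Finset.mem_univ,
      if_true] at h4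
    have hd2 : δ * δ = 1 := by rcases F.sign with r | r <;> rw [r] <;> norm_num
    rw [hd2] at h4
    have h5 : ∑ ψ ∈ sl h \ (Finset.univ.image Y ∪ X), crd h ψ q * crd h ψ q = 0 := by
      simp only [nsmul_eq_mul, mul_one] at h4
      push_cast at h4
      linarith
    exact mul_self_eq_zero.1 ((Finset.sum_eq_zero_iff_of_nonneg fun ψ _ => mul_self_nonneg _).1 h5
      χ (Finset.mem_sdiff.2 ⟨hχ, hnot⟩))
  have hone : oneChar G ∈ X := by
    have h1 : oneChar G ∈ sl h := self_mem_slice h _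
    by_contra hn
    by_cases hy : oneChar G ∈ Finset.univ.image Y
    · obtain ⟨κ, -, hκ⟩ := Finset.mem_image.1 hy
      obtain ⟨b, hb⟩ := Fintype.exists_ne_of_one_lt_card
        (show 1 < Fintype.card (Cls h) by rw [S.t_eq]; norm_num) κ
      have h2 := F.val κ b
      rw [hκ, crd_one, if_neg hb] at h2
      omega
    · have h2 := hzero _ h1 (by simp [hn, hy]) 1
      rw [crd_one] at h2
      omega
  have h2 : (X.erase (oneChar G)).card = 2 := by rw [Finset.card_erase_of_mem hone, hXc]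
  obtain ⟨χ, χ', hne, hX2⟩ := Finset.card_eq_two.1 h2
  have hχ : χ ∈ X.erase (oneChar G) := by rw [hX2]; simp
  have hχ' : χ' ∈ X.erase (oneChar G) := by rw [hX2]; simp
  obtain ⟨hχ1, hχX⟩ := Finset.mem_erase.1 hχ
  obtain ⟨hχ1', hχX'⟩ := Finset.mem_erase.1 hχ'
  have hXeq : X = insert (oneChar G) {χ, χ'} := by rw [← hX2, Finset.insert_erase hone]
  have hconst : ∀ ψ ∈ X, ∀ q, crd h ψ q = crd h ψ 1 := fun ψ hψ q =>
    ((F.rest ψ (hXs hψ)).resolve_left fun ⟨κ, hκ⟩ => hXY κ (hκ ▸ hψ)) q 1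
  have hsg : ∀ ψ ∈ X, crd h ψ 1 = 1 ∨ crd h ψ 1 = -1 := fun ψ hψ =>
    mul_self_eq_one_iff.1 (hXsq ψ hψ 1)
  refine ⟨Y, δ, χ, χ', crd h χ 1, crd h χ' 1, F, hχ1, hχ1', fun q hq => hXY q (hq ▸ hone),
    hXs hχX, hXs hχX', hsg χ hχX, hsg χ' hχX', hconst χ hχX, hconst χ' hχX', hne,
    fun q => ⟨fun e => hXY q (e ▸ hχX), fun e => hXY q (e ▸ hχX')⟩, fun f q => ?_⟩
  rw [← Finset.sum_sdiff hsub, Finset.sum_eq_zero fun ψ hψ => by
    rw [hzero ψ (Finset.mem_sdiff.1 hψ).1 (Finset.mem_sdiff.1 hψ).2, Int.cast_zero, mul_zero],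
    zero_add, Finset.sum_union hd, Finset.sum_image fun a _ b _ e => F.inj e]
  simp only [F.val, Int.cast_ite, Int.cast_zero, mul_ite, mul_zero, Finset.sum_ite_eq,
    Finset.mem_univ, if_true]
  rw [hXeq, Finset.sum_insert (by simp [Ne.symm hχ1, Ne.symm hχ1']), Finset.sum_pair hne, crd_one,
    hconst χ hχX q, hconst χ' hχX' q]
  push_cast
  ring

variable {S : Sit h} {Y : Cls h → Cfsg.IrrCharacter G} {δ : ℤ} {χ χ' : Cfsg.IrrCharacter G}
  {a a' : ℤ}

theorem Princ.deg_Y (P : Princ S Y δ χ χ' a a') (q : Cls h) :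
    Cfsg.charDegree (Y q : G → ℂ) = Cfsg.charDegree (Y 1 : G → ℂ) := by
  refine BlocksChars5.Basic.charDegree_congr (P.fam.reg q 1 ?_)
  rw [orderOf_one]
  norm_num

theorem Princ.expand_x (P : Princ S Y δ χ χ' a a') (f : Cfsg.IrrCharacter G → ℂ) (w : ℂ)
    (hY : ∀ q, f (Y q) = w) :
    ∑ ψ ∈ sl h, f ψ * conj ((ψ : G → ℂ) x) =
      -((δ : ℂ) * w - f (oneChar G) + (a : ℂ) * f χ + (a' : ℂ) * f χ') := by
  have h1 : ∀ ψ ∈ sl h, f ψ * conj ((ψ : G → ℂ) x) =
      ∑ q, conj (eta (ex h) q) * (f ψ * (crd h ψ q : ℂ)) := fun ψ _ => by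
    rw [value_x (h := h), map_sum, Finset.mul_sum]
    refine Finset.sum_congr rfl fun q _ => ?_
    rw [map_mul, map_intCast]
    ring
  rw [Finset.sum_congr rfl h1, Finset.sum_comm]
  simp only [← Finset.mul_sum, P.expand, hY]
  rw [← Finset.sum_mul, ← map_sum, sum_eta, map_neg, map_one]
  ring

/-- The relation between the values on regular elements. -/
theorem Princ.linear (P : Princ S Y δ χ χ' a a') {g : G} (hg : ¬ 19 ∣ orderOf g) :
    (a : ℂ) * (χ : G → ℂ) g + (a' : ℂ) * (χ' : G → ℂ) g + (δ : ℂ) * (Y 1 : G → ℂ) g = 1 := by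
  have h1 := col_regular h hg
  rw [P.expand_x (fun ψ => (ψ : G → ℂ) g) ((Y 1 : G → ℂ) g) fun q => P.fam.reg q g hg,
    oneChar_apply] at h1
  linear_combination -h1

theorem Princ.deg_eq (P : Princ S Y δ χ χ' a a') :
    a * (Cfsg.charDegree (χ : G → ℂ) : ℤ) + a' * Cfsg.charDegree (χ' : G → ℂ) +
      δ * Cfsg.charDegree (Y 1 : G → ℂ) = 1 := by
  have h1 := P.linear (g := 1) (by rw [orderOf_one]; norm_num)
  simp only [apply_one_zeta] at h1
  exact_mod_cast h1

theorem Princ.isSquare (P : Princ S Y δ χ χ' a a') :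
    IsSquare (-(a * a' * δ * (Cfsg.charDegree (χ : G → ℂ) : ℤ) *
      Cfsg.charDegree (χ' : G → ℂ) * Cfsg.charDegree (Y 1 : G → ℂ))) := by
  obtain ⟨u, hu, huc⟩ := S.exists_half
  obtain ⟨A, hA⟩ := exists_int_value P.mem hu
  obtain ⟨B, hB⟩ := exists_int_value P.mem' hu
  obtain ⟨C, hC⟩ := exists_int_value (P.fam.mem 1) hu
  have hreg : ¬ 19 ∣ orderOf u := by
    intro hd
    have h1 : orderOf u ∣ 2 * Nat.card (Subgroup.center G) :=
      orderOf_dvd_of_pow_eq_one (by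
        rw [pow_mul, pow_two]
        exact orderOf_dvd_iff_pow_eq_one.1 (Subgroup.orderOf_dvd_natCard _ hu))
    rcases (Fact.out : Nat.Prime 19).dvd_mul.1 (hd.trans h1) with h2 | h2
    · norm_num at h2
    · exact not_dvd_center h h2
  have hlin := P.linear hreg
  have hmul := S.mult_zero hu
  rw [P.expand_x (fun ψ => (ψ : G → ℂ) u * (ψ : G → ℂ) u / (ψ : G → ℂ) 1)
    ((Y 1 : G → ℂ) u * (Y 1 : G → ℂ) u / (Y 1 : G → ℂ) 1) (fun q => by
      rw [P.fam.reg q u hreg, P.fam.reg q 1 (by rw [orderOf_one]; norm_num)])] at hmul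
  simp only [oneChar_apply, hA, hB, hC, apply_one_zeta, mul_one, div_one] at hlin hmul
  have hlinZ : a * A + a' * B + δ * C = 1 := by exact_mod_cast hlin
  have hd := S.nine_le P.ne
  have hd' := S.nine_le P.ne'
  have hD := S.nine_le (P.yne 1)
  have hdeg := P.deg_eq
  obtain ⟨d, hdd⟩ : ∃ d : ℕ, Cfsg.charDegree (χ : G → ℂ) = d := ⟨_, rfl⟩
  obtain ⟨d', hdd'⟩ : ∃ d : ℕ, Cfsg.charDegree (χ' : G → ℂ) = d := ⟨_, rfl⟩
  obtain ⟨D, hDD⟩ : ∃ d : ℕ, Cfsg.charDegree (Y 1 : G → ℂ) = d := ⟨_, rfl⟩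
  rw [hdd] at hd hmul hdeg ⊢
  rw [hdd'] at hd' hmul hdeg ⊢
  rw [hDD] at hD hmul hdeg ⊢
  have hd0 : (d : ℂ) ≠ 0 := Nat.cast_ne_zero.2 (by omega)
  have hd0' : (d' : ℂ) ≠ 0 := Nat.cast_ne_zero.2 (by omega)
  have hD0 : (D : ℂ) ≠ 0 := Nat.cast_ne_zero.2 (by omega)
  have hmulZ : (d : ℤ) * d' * D - a * A ^ 2 * d' * D - a' * B ^ 2 * d * D - δ * C ^ 2 * d * d' = 0 := by
    apply @Int.cast_injective ℂ
    push_cast
    field_simp at hmul
    linear_combination hmul
  have hW : C - D ≠ 0 := fun h0 => huc (S.ker_central (P.yne 1) (by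
    rw [hC, apply_one_zeta, hDD, sub_eq_zero.1 h0, Int.cast_natCast]))
  refine Arith.square_of_form (X := A - d) (Y := B - d') P.sgn P.sgn' P.fam.sign (by omega)
    (by omega) (by omega) hdeg (by linear_combination hlinZ - hdeg) hW ?_
  linear_combination (-hmulZ) - 2 * (d : ℤ) * d' * D * hlinZ + (d : ℤ) * d' * D * hdeg

/-- The multiplicities in the product of a member of the family of `ζ` and the conjugate of `ζ`. -/
theorem exists_mult {ψ : Cfsg.IrrCharacter G}
    (hψ : ∀ z ∈ Subgroup.center G, lam ψ z = lam ζ z) :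
    ∃ m : Cfsg.IrrCharacter G → ℕ, (∀ g, (ψ : G → ℂ) g * conj ((ζ : G → ℂ) g) =
        ∑ θ ∈ sl h, (m θ : ℂ) * (θ : G → ℂ) g) ∧
      (ψ = ζ → m (oneChar G) = 1) ∧ (ψ ≠ ζ → m (oneChar G) = 0) := by
  classical
  haveI := Fintype.ofFinite G
  let F : G → ℂ := fun g => (ψ : G → ℂ) g * conj ((ζ : G → ℂ) g)
  have hF : Cfsg.IsCharacter G F :=
    isCharacter_mul (isCharacter_irr ψ) (isCharacter_conj (isCharacter_irr ζ))
  have hFz : ∀ a, ∀ z ∈ Subgroup.center G, F (a * z) = F a := fun a z hz => by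
    simp only [F, apply_mul_central ψ hz, apply_mul_central ζ hz, map_mul, hψ z hz]
    linear_combination (ψ : G → ℂ) a * conj ((ζ : G → ℂ) a) * lam_mul_conj ζ hz
  choose m hm using fun θ : Cfsg.IrrCharacter G => exists_classInner_nat hF (isCharacter_irr θ)
  have h1 : Cfsg.classInner F (oneChar G : G → ℂ) = Cfsg.classInner (ψ : G → ℂ) ζ := by
    simp only [Cfsg.classInner, F, oneChar_apply, map_one, mul_one]
  rw [hm] at h1
  refine ⟨m, fun g => ?_, fun e => ?_, fun e => ?_⟩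
  · show F g = _
    have hsupp : ∀ θ : Cfsg.IrrCharacter G, θ ∉ sl h → m θ = 0 := by
      intro θ hθ
      rw [mem_sl] at hθ
      push Not at hθ
      obtain ⟨z, hz, hne⟩ := hθ
      have h2 : Cfsg.classInner F (θ : G → ℂ) = conj (lam θ z) * Cfsg.classInner F (θ : G → ℂ) := by
        rw [Cfsg.classInner, mul_left_comm (conj (lam θ z))]
        congr 1
        rw [Finset.mul_sum]
        refine (Fintype.sum_equiv (Equiv.mulRight z) _ _ fun a => ?_).symm
        rw [Equiv.coe_mulRight, hFz a z hz, apply_mul_central θ hz, map_mul]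
        ring
      rw [hm θ] at h2
      refine Nat.cast_eq_zero.1 ((mul_eq_zero.1 (by linear_combination (-1 : ℂ) * h2 :
        (conj (lam θ z) - 1) * (m θ : ℂ) = 0)).resolve_left fun h0 => hne ?_)
      have h3 := congrArg conj (sub_eq_zero.1 h0)
      rwa [Complex.conj_conj, map_one] at h3
    conv_lhs => rw [character_eq_finsum hF, finsum_eq_sum_of_fintype]
    simp only [Finset.sum_apply, Pi.smul_apply, smul_eq_mul, hm]
    exact (Finset.sum_subset (Finset.subset_univ _) fun θ _ hθ => by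
      rw [hsupp θ hθ, Nat.cast_zero, zero_mul]).symm
  · rw [e, classInner_self_irr] at h1
    exact_mod_cast h1
  · rw [classInner_irr_of_ne e] at h1
    exact_mod_cast h1

open scoped Classical in
/-- The rows of the cyclotomic numbers are the multiplicities of the exceptional family. -/
theorem Princ.row (P : Princ S Y δ χ χ' a a') (κ : Cls h) :
    ∃ (ψ : Cfsg.IrrCharacter G) (m : Cfsg.IrrCharacter G → ℕ) (σ : Cls h ≃ Cls h),
      (κ = negc (ex h) ↔ ψ = ζ) ∧
      (∀ g, ¬ 19 ∣ orderOf g → (ψ : G → ℂ) g = (ζ : G → ℂ) g) ∧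
      (∀ g, (ψ : G → ℂ) g * conj ((ζ : G → ℂ) g) = ∑ θ ∈ sl h, (m θ : ℂ) * (θ : G → ℂ) g) ∧
      (m (oneChar G) = if κ = negc (ex h) then 1 else 0) ∧
      ∀ q, δ * (m (Y q) : ℤ) - m (oneChar G) + a * m χ + a' * m χ' =
        coef (ex h) κ (σ q) := by
  classical
  set θ := negc (ex h) with hθ
  have hθθ : θ * θ = 1 := FeitSmall.Cyclotomy.negc_mul_self _
  obtain ⟨ψ₀, hc₀, hr₀, hl₀⟩ := FeitSmall.Budget.exists_fam h ζ (κ * θ)⁻¹
  let ψ : Cfsg.IrrCharacter G := if κ = θ then ζ else ψ₀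
  have hc : ∀ q, crd h ψ q = if q = κ * θ then -1 else 0 := by
    intro q
    by_cases e : κ = θ
    · simp [ψ, e, hθθ, S.std.val]
    · simp only [ψ, if_neg e, hc₀, S.std.val, mul_inv_eq_one]
  have hl : ∀ z ∈ Subgroup.center G, lam ψ z = lam ζ z := by
    intro z hz
    by_cases e : κ = θ
    · simp [ψ, e]
    · simpa [ψ, e] using hl₀ z hz
  have hiff : κ = θ ↔ ψ = ζ := by
    refine ⟨fun e => by simp [ψ, e], fun e => ?_⟩
    have h1 := hc (κ * θ)
    rw [e, S.std.val, if_pos rfl] at h1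
    split_ifs at h1 with h2
    · rw [← mul_one θ, ← h2, mul_comm κ, ← mul_assoc, hθθ, one_mul]
  obtain ⟨m, hm, hm1, hm0⟩ := exists_mult (h := h) hl
  have hone : m (oneChar G) = if κ = θ then 1 else 0 := by
    split_ifs with e
    · exact hm1 (hiff.1 e)
    · exact hm0 fun e' => e (hiff.2 e')
  refine ⟨ψ, m, Equiv.mulRight θ, hiff, fun g hg => ?_, hm, hone, fun q => ?_⟩
  · by_cases e : κ = θ
    · simp [ψ, e]
    · simpa [ψ, e] using hr₀ g hg
  refine congrFun (coord_unique h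
    (f := fun q => δ * (m (Y q) : ℤ) - m (oneChar G) + a * m χ + a' * m χ')
    (g := fun q => coef (ex h) κ (q * θ)) fun u => ?_) q
  set r : Cls h := θ * QuotientGroup.mk u with hr
  have h1 : (ψ : G → ℂ) (x ^ (u : ZMod 19).val) * conj ((ζ : G → ℂ) (x ^ (u : ZMod 19).val)) =
      eta (ex h) r * eta (ex h) (r * κ) := by
    rw [crd_val h ψ, Eigen.value S.std, map_neg, SmallDegree.conj_eta]
    simp only [hc, Int.cast_ite, Int.cast_neg, Int.cast_one, Int.cast_zero, ite_mul, neg_mul,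
      one_mul, zero_mul, Finset.sum_ite_eq', Finset.mem_univ, if_true]
    rw [hr, hθ, negc, mul_comm (QuotientGroup.mk u : Cls h) (QuotientGroup.mk (-1)),
      show QuotientGroup.mk (-1) * QuotientGroup.mk u * κ =
        κ * QuotientGroup.mk (-1) * (QuotientGroup.mk u : Cls h) by
        rw [mul_comm (QuotientGroup.mk (-1) * QuotientGroup.mk u : Cls h) κ, ← mul_assoc]]
    ring
  rw [hm] at h1
  have h2 : ∑ ψ' ∈ sl h, (m ψ' : ℂ) * (ψ' : G → ℂ) (x ^ (u : ZMod 19).val) =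
      ∑ q, ((δ * (m (Y q) : ℤ) - m (oneChar G) + a * m χ + a' * m χ' : ℤ) : ℂ) *
        eta (ex h) (q * QuotientGroup.mk u) := by
    simp only [crd_val h, Finset.mul_sum]
    rw [Finset.sum_comm]
    refine Finset.sum_congr rfl fun q _ => ?_
    simp only [← mul_assoc]
    rw [← Finset.sum_mul, P.expand]
    push_cast
    ring
  rw [← h2, h1, eta_mul_coef]
  refine (Fintype.sum_equiv (Equiv.mulRight θ) _ _ fun q => ?_).symm
  simp only [Equiv.coe_mulRight, hr]
  rw [← mul_assoc, mul_assoc q θ θ, hθθ, mul_one]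

theorem exists_zero {n : ℤ} (h : Hyp 19 x ζ) (f : Cls h → ℕ) (hf : ∑ q, (f q : ℤ) = n)
    (ht : Fintype.card (Cls h) = 6) (hn : n < 6) : ∃ q, f q = 0 := by
  by_contra hne
  push Not at hne
  have : (Fintype.card (Cls h) : ℤ) ≤ ∑ q, (f q : ℤ) := by
    rw [Fintype.card, Finset.cast_card]
    exact Finset.sum_le_sum fun q _ => by exact_mod_cast Nat.one_le_iff_ne_zero.2 (hne q)
  rw [ht, hf] at this
  omega

/-- The total degree. -/
theorem Princ.budget (P : Princ S Y δ χ χ' a a') (m : Cfsg.IrrCharacter G → ℕ)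
    {ψ : Cfsg.IrrCharacter G} (hψ : (ψ : G → ℂ) 1 = (ζ : G → ℂ) 1)
    (hm : ∀ g, (ψ : G → ℂ) g * conj ((ζ : G → ℂ) g) = ∑ θ ∈ sl h, (m θ : ℂ) * (θ : G → ℂ) g) :
    (∑ q, (m (Y q) : ℤ)) * Cfsg.charDegree (Y 1 : G → ℂ) + m (oneChar G) +
      (Cfsg.charDegree (χ : G → ℂ) : ℤ) * m χ + (Cfsg.charDegree (χ' : G → ℂ) : ℤ) * m χ' ≤
      256 := by
  classical
  have h1 := hm 1
  simp only [hψ, apply_one_zeta, S.deg] at h1
  have h2 : ((256 : ℕ) : ℂ) =
      ((∑ θ ∈ sl h, m θ * Cfsg.charDegree (θ : G → ℂ) : ℕ) : ℂ) := by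
    push_cast
    rw [← h1]
    simp only [Nat.cast_ofNat, Complex.conj_ofNat]
    norm_num
  have h3 : ∑ θ ∈ sl h, m θ * Cfsg.charDegree (θ : G → ℂ) = 256 := (Nat.cast_injective h2).symm
  have hd : Disjoint (Finset.univ.image Y) ({oneChar G, χ, χ'} : Finset (Cfsg.IrrCharacter G)) := by
    rw [Finset.disjoint_left]
    rintro _ hκ
    obtain ⟨κ, -, rfl⟩ := Finset.mem_image.1 hκ
    simp [P.yne κ, (P.off κ).1, (P.off κ).2]
  have hsub : Finset.univ.image Y ∪ {oneChar G, χ, χ'} ⊆ sl h :=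
    Finset.union_subset (Finset.image_subset_iff.2 fun κ _ => P.fam.mem κ) (by
      simp [Finset.insert_subset_iff, P.mem, P.mem', self_mem_slice h (oneChar G)])
  have h4 := Finset.sum_le_sum_of_subset (f := fun θ : Cfsg.IrrCharacter G =>
    m θ * Cfsg.charDegree (θ : G → ℂ)) hsub
  rw [h3, Finset.sum_union hd, Finset.sum_image fun a _ b _ e => P.fam.inj e,
    Finset.sum_insert (by simp [Ne.symm P.ne, Ne.symm P.ne']), Finset.sum_pair P.dist] at h4
  simp only [P.deg_Y, ← Finset.sum_mul] at h4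
  have h1' : Cfsg.charDegree (oneChar G : G → ℂ) = 1 := by
    have := apply_one_zeta (oneChar G)
    rw [oneChar_apply] at this
    exact_mod_cast this.symm
  rw [h1'] at h4
  have h5 : (((∑ q, m (Y q)) * Cfsg.charDegree (Y 1 : G → ℂ) +
      (m (oneChar G) * 1 + (m χ * Cfsg.charDegree (χ : G → ℂ) +
        m χ' * Cfsg.charDegree (χ' : G → ℂ))) : ℕ) : ℤ) ≤ ((256 : ℕ) : ℤ) := Int.ofNat_le.2 h4
  push_cast at h5
  linarith

/-- The degrees. -/
theorem Princ.degrees (P : Princ S Y δ χ χ' a a') :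
    δ = 1 ∧ (Cfsg.charDegree (Y 1 : G → ℂ) : ℤ) = 22 ∧
      ((a = 1 ∧ a' = -1 ∧ (Cfsg.charDegree (χ : G → ℂ) : ℤ) = 56 ∧
          (Cfsg.charDegree (χ' : G → ℂ) : ℤ) = 77) ∨
        (a = -1 ∧ a' = 1 ∧ (Cfsg.charDegree (χ : G → ℂ) : ℤ) = 77 ∧
          (Cfsg.charDegree (χ' : G → ℂ) : ℤ) = 56)) := by
  classical
  obtain ⟨ψ, m, σ, hiff, hreg, hm, hone, hrow⟩ := P.row (negc (ex h))
  rw [if_pos rfl] at hone
  have hcoef : ∀ q, coef (ex h) (negc (ex h)) q = (cyc (ex h) (negc (ex h)) q : ℤ) - 3 := fun q => by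
    simp [coef, S.e_eq]
  simp only [hcoef, hone, Nat.cast_one] at hrow
  have hsum : ∑ q, (cyc (ex h) (negc (ex h)) q : ℤ) = 2 := by
    rw [sum_cyc, if_pos rfl, S.e_eq]
    norm_num
  obtain ⟨q0, hq0⟩ := exists_zero h (fun q => cyc (ex h) (negc (ex h)) q) hsum S.t_eq (by norm_num)
  have hK0 := hrow (σ.symm q0)
  rw [Equiv.apply_symm_apply, hq0, Nat.cast_zero] at hK0
  have htot : ∑ q, (δ * (m (Y q) : ℤ) - 1 + a * m χ + a' * m χ') = 2 - 18 := by
    rw [Finset.sum_congr rfl fun q _ => hrow q,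
      Equiv.sum_comp σ fun q => (cyc (ex h) (negc (ex h)) q : ℤ) - 3, Finset.sum_sub_distrib, hsum,
      Finset.sum_const, Finset.card_univ, S.t_eq]
    norm_num
  simp only [Finset.sum_add_distrib, Finset.sum_sub_distrib, ← Finset.mul_sum, Finset.sum_const,
    Finset.card_univ, S.t_eq, nsmul_eq_mul] at htot
  have hb := P.budget m (hreg 1 (by rw [orderOf_one]; norm_num)) hm
  rw [hone, Nat.cast_one] at hb
  have hdY := (FeitSmall.Slice.degree P.fam 1)
  obtain ⟨c₀, hc₀, -⟩ := hdY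
  rw [S.e_eq] at hc₀
  have h9 := S.nine_le P.ne
  have h9' := S.nine_le P.ne'
  have h9Y := S.nine_le (P.yne 1)
  refine Arith.degrees (k := m χ) (k' := m χ') P.sgn P.sgn' P.fam.sign
    (degree_mod S P.val) (degree_mod S P.val') ⟨c₀, by rw [hc₀]; push_cast; ring⟩
    (by omega) (by omega) (by omega) P.deg_eq (Int.natCast_nonneg _) (Int.natCast_nonneg _)
    (fun e => ?_) (fun e => ?_) P.isSquare
  · subst e
    refine ⟨by linarith [Int.natCast_nonneg (m (Y (σ.symm q0)))], ?_⟩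
    push_cast at htot
    rw [show ∑ q, (m (Y q) : ℤ) = 2 + 6 * (-3 - (a * (m χ : ℤ) + a' * m χ' - 1)) by linarith] at hb
    linarith
  · subst e
    push_cast at htot
    rw [show ∑ q, (m (Y q) : ℤ) = 6 * (a * (m χ : ℤ) + a' * m χ' - 1) + 16 by linarith] at hb
    linarith

/-- On regular elements the product of `ζ` and its conjugate contains three times a character of
degree 22 with central kernel. -/
theorem exists_three (S : Sit h) :
    ∃ (Y : Cfsg.IrrCharacter G) (R : G → ℂ), Cfsg.charDegree (Y : G → ℂ) = 22 ∧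
      (∀ z ∈ Subgroup.center G, lam Y z = 1) ∧
      (∀ g, (Y : G → ℂ) g = (Y : G → ℂ) 1 → g ∈ Subgroup.center G) ∧
      Cfsg.IsCharacter G R ∧
      ∀ g, ¬ 19 ∣ orderOf g → (ζ : G → ℂ) g * conj ((ζ : G → ℂ) g) = 3 * (Y : G → ℂ) g + R g := by
  classical
  obtain ⟨Y, δ, χ, χ', a, a', P⟩ := exists_princ S
  obtain ⟨rfl, hD, hdd⟩ := P.degrees
  obtain ⟨b, hb⟩ := Fintype.exists_ne_of_one_lt_card
    (show 1 < Fintype.card (Cls h) by rw [S.t_eq]; norm_num) (negc (ex h))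
  obtain ⟨ψ, m, σ, hiff, hreg, hm, hone, hrow⟩ := P.row b
  rw [if_neg hb] at hone
  have hcoef : ∀ q, coef (ex h) b q = (cyc (ex h) b q : ℤ) := fun q => by simp [coef, hb]
  simp only [hcoef, hone, Nat.cast_zero, sub_zero] at hrow
  have hsum : ∑ q, (cyc (ex h) b q : ℤ) = 3 := by
    rw [sum_cyc, if_neg hb, S.e_eq]
    norm_num
  obtain ⟨q0, hq0⟩ := exists_zero h (fun q => cyc (ex h) b q) hsum S.t_eq (by norm_num)
  have hK0 := hrow (σ.symm q0)
  rw [Equiv.apply_symm_apply, hq0, Nat.cast_zero, one_mul] at hK0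
  have htot : ∑ q, (1 * (m (Y q) : ℤ) + a * m χ + a' * m χ') = 3 := by
    rw [Finset.sum_congr rfl fun q _ => hrow q,
      Equiv.sum_comp σ fun q => (cyc (ex h) b q : ℤ), hsum]
  simp only [one_mul, Finset.sum_add_distrib, Finset.sum_const,
    Finset.card_univ, S.t_eq, nsmul_eq_mul] at htot
  push_cast at htot
  have hbud := P.budget m (hreg 1 (by rw [orderOf_one]; norm_num)) hm
  rw [hone, hD] at hbud
  push_cast at hbud
  have hK : a * (m χ : ℤ) + a' * m χ' = 0 := by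
    have h0 := Int.natCast_nonneg (m (Y (σ.symm q0)))
    have hk := Int.natCast_nonneg (m χ)
    have hk' := Int.natCast_nonneg (m χ')
    rcases hdd with ⟨rfl, rfl, e1, e2⟩ | ⟨rfl, rfl, e1, e2⟩ <;> rw [e1, e2] at hbud <;> omega
  have hY3 : ∑ q, (m (Y q) : ℂ) = 3 := by
    have h3 : ∑ q, (m (Y q) : ℤ) = 3 := by linarith
    have h4 := congrArg (Int.cast : ℤ → ℂ) h3
    push_cast at h4
    exact h4
  set O := (sl h).filter fun θ => θ ∉ Finset.univ.image Y with hO
  have hRchar : Cfsg.IsCharacter G (∑ θ ∈ O, (m θ : ℕ) • (θ : G → ℂ)) :=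
    isCharacter_sum O fun θ _ => isCharacter_nsmul (isCharacter_irr θ) (m θ)
  refine ⟨Y 1, _, by exact_mod_cast hD, mem_sl.1 (P.fam.mem 1),
    fun g hg => S.ker_central (P.yne 1) hg, hRchar, fun g hg => ?_⟩
  have h1 := hm g
  rw [hreg g hg] at h1
  rw [h1, Finset.sum_apply, ← Finset.sum_filter_add_sum_filter_not (sl h)
    (fun θ => θ ∈ Finset.univ.image Y), ← hO]
  congr 1
  · rw [show (sl h).filter (fun θ => θ ∈ Finset.univ.image Y) = Finset.univ.image Y by
      ext θ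
      simp only [Finset.mem_filter, and_iff_right_iff_imp]
      intro hθ
      obtain ⟨κ, -, rfl⟩ := Finset.mem_image.1 hθ
      exact P.fam.mem κ, Finset.sum_image fun a _ b _ e => P.fam.inj e]
    simp only [P.fam.reg _ g hg, ← Finset.sum_mul, hY3]
  · exact Finset.sum_congr rfl fun θ _ => by simp [Pi.smul_apply]

end Cfsg.Agent.Lib.Sixteen80.Principal
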