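import Cfsg.Agent.Lib.Sixteen80.Count
import Cfsg.Agent.Lib.Sixteen80.Normalise
import Cfsg.Agent.Lib.Clifford.Basic
import Mathlib.LinearAlgebra.Eigenspace.Basic

/-!
# The induction behind `p² ∤ |G|` for linear groups of degree at most 16 and `p ≥ 19`

The facts about a proper subgroup, obtained from a smaller group of determinant one.
-/

set_option autoImplicit false
set_option linter.unusedSectionVars false
set_option linter.style.haveILetI false

namespace Cfsg.Agent.Lib.Sixteen80.Reduce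

open Cfsg.Agent.Lib Cfsg.Agent.Lib.FirstPower Average Periods Cfsg.Agent.Lib.Characters.Basic
open Cfsg.Agent.Lib.FeitSmall.Setup (Hyp)
open Mult

attribute [local instance] BlocksChars5.Basic.irrFintype

universe u

variable {p : ℕ} [Fact p.Prime] {G : Type u} [Group G] [Finite G]

/-- Two p-elements that do not commute. -/
def Noncomm (p : ℕ) (G : Type u) [Group G] : Prop :=
  ∃ a b : G, PEl p a ∧ PEl p b ∧ ¬ Commute a b

/-- The situation with the inductive hypothesis. -/
structure Ctx (p : ℕ) {G : Type u} [Group G] [Finite G] (χ : Cfsg.IrrCharacter G) : Prop where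
  big : 19 ≤ p
  faith : ∀ g : G, (χ : G → ℂ) g = (χ : G → ℂ) 1 → g = 1
  deg : Cfsg.charDegree (χ : G → ℂ) ≤ 16
  cen : ¬ p ∣ Nat.card (Subgroup.center G)
  nc : Noncomm p G
  ih : ∀ (K : Type u) [Group K] [Finite K] (φ : Cfsg.IrrCharacter K),
    (∀ k, (φ : K → ℂ) k = (φ : K → ℂ) 1 → k = 1) → Cfsg.charDegree (φ : K → ℂ) ≤ 16 →
    ¬ p ∣ Nat.card (Subgroup.center K) → Noncomm p K →
    ((Subgroup.center K).index < (Subgroup.center G).index ∨
      ((Subgroup.center K).index ≤ (Subgroup.center G).index ∧ Nat.card K < Nat.card G)) →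
    ¬ p ^ 2 ∣ Nat.card K

/-- The standing hypotheses at every element of order `p`. -/
theorem hyp_of_sq {χ : Cfsg.IrrCharacter G} (hfaith : ∀ g : G, (χ : G → ℂ) g = (χ : G → ℂ) 1 → g = 1)
    (hp : 19 ≤ p) (hdeg : Cfsg.charDegree (χ : G → ℂ) ≤ 16) (hnc : Noncomm p G)
    (hsq : ¬ p ^ 2 ∣ Nat.card G) {x : G} (hx : orderOf x = p) : Hyp p x χ := by
  refine ⟨by omega, hx, hsq, fun K hK hcard => ?_, by omega, hfaith⟩
  obtain ⟨Q, hQ⟩ := (IsPGroup.of_card (n := 1) (by rw [pow_one]; exact hcard) :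
    IsPGroup p K).exists_le_sylow
  have hQK : (Q : Subgroup G) = K := by
    obtain ⟨j, hj⟩ := Q.2.exists_card_eq
    refine (Subgroup.eq_of_le_of_card_ge hQ ?_).symm
    rw [hj, hcard]
    have hj2 : j < 2 := by
      by_contra hcon
      exact hsq ((pow_dvd_pow p (by omega)).trans (hj ▸ Subgroup.card_subgroup_dvd_card _))
    calc p ^ j ≤ p ^ 1 := Nat.pow_le_pow_right (Fact.out : p.Prime).pos (by omega)
      _ = p := pow_one p
  haveI hQn : (Q : Subgroup G).Normal := hQK.symm ▸ hK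
  haveI := Q.unique_of_normal hQn
  obtain ⟨a, b, ha, hb, hab⟩ := hnc
  have hmem : ∀ c : G, PEl p c → c ∈ K := fun c hc => by
    obtain ⟨R, hR⟩ := hc.isPGroup_zpowers.exists_le_sylow
    rw [Subsingleton.elim R Q, hQK] at hR
    exact hR (Subgroup.mem_zpowers c)
  haveI : IsCyclic K := isCyclic_of_prime_card hcard
  letI : CommGroup K := IsCyclic.commGroup
  exact hab (congrArg Subtype.val (mul_comm (⟨a, hmem a ha⟩ : K) ⟨b, hmem b hb⟩))

theorem exists_expand (H : Subgroup G) {F : G → ℂ} (hF : Cfsg.IsCharacter G F) :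
    ∃ n : Cfsg.IrrCharacter H → ℕ,
      (∀ h : H, F (h : G) = ∑ θ : Cfsg.IrrCharacter H, (n θ : ℂ) * (θ : H → ℂ) h) ∧
      ∑ θ : Cfsg.IrrCharacter H, n θ * Cfsg.charDegree (θ : H → ℂ) = Cfsg.charDegree F := by
  classical
  haveI := Fintype.ofFinite H
  have hres : Cfsg.IsCharacter H (fun h : H => F h) := isCharacter_comp H.subtype hF
  choose n hn using fun θ : Cfsg.IrrCharacter H =>
    exists_classInner_nat hres (isCharacter_irr θ)
  have hexp : ∀ h : H, F (h : G) = ∑ θ : Cfsg.IrrCharacter H, (n θ : ℂ) * (θ : H → ℂ) h := by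
    intro h
    have h1 := congrFun (character_eq_finsum hres) h
    rw [finsum_eq_sum_of_fintype] at h1
    simp only [Finset.sum_apply, Pi.smul_apply, smul_eq_mul, hn] at h1
    exact h1
  refine ⟨n, hexp, ?_⟩
  have h1 := hexp 1
  rw [OneMemClass.coe_one, ← BlocksChars5.Basic.charDegree_cast hF] at h1
  simp only [DegreeBounds.Basic.charDegree_irr] at h1
  exact_mod_cast h1.symm

theorem deg_le {H : Subgroup G} {n : Cfsg.IrrCharacter H → ℕ} {d : ℕ}
    (hsum : ∑ θ : Cfsg.IrrCharacter H, n θ * Cfsg.charDegree (θ : H → ℂ) = d)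
    {θ : Cfsg.IrrCharacter H} (hθ : n θ ≠ 0) : Cfsg.charDegree (θ : H → ℂ) ≤ d := by
  classical
  rw [← hsum]
  exact (Nat.le_mul_of_pos_left _ (Nat.pos_of_ne_zero hθ)).trans
    (Finset.single_le_sum (f := fun θ : Cfsg.IrrCharacter H => n θ * Cfsg.charDegree (θ : H → ℂ))
      (fun _ _ => Nat.zero_le _) (Finset.mem_univ θ))

/-- Some constituent separates two non-commuting elements. -/
theorem exists_separating {χ : Cfsg.IrrCharacter G}
    (hfaith : ∀ g : G, (χ : G → ℂ) g = (χ : G → ℂ) 1 → g = 1) (H : Subgroup G)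
    {n : Cfsg.IrrCharacter H → ℕ}
    (hexp : ∀ h : H, (χ : G → ℂ) (h : G) = ∑ θ : Cfsg.IrrCharacter H, (n θ : ℂ) * (θ : H → ℂ) h)
    {a b : H} (hab : ¬ Commute (a : G) b) :
    ∃ θ : Cfsg.IrrCharacter H, n θ ≠ 0 ∧
      (θ : H → ℂ) (a * b * a⁻¹ * b⁻¹) ≠ (θ : H → ℂ) 1 := by
  by_contra hcon
  push Not at hcon
  apply hab
  have h1 : (χ : G → ℂ) ((a * b * a⁻¹ * b⁻¹ : H) : G) = (χ : G → ℂ) ((1 : H) : G) := by
    rw [hexp, hexp]
    refine Finset.sum_congr rfl fun θ _ => ?_
    by_cases hn : n θ = 0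
    · rw [hn, Nat.cast_zero, zero_mul, zero_mul]
    · rw [hcon θ hn]
  rw [OneMemClass.coe_one] at h1
  have h2 := hfaith _ h1
  simp only [Subgroup.coe_mul, InvMemClass.coe_inv] at h2
  rw [mul_inv_eq_one, mul_inv_eq_iff_eq_mul] at h2
  exact h2

/-- Multiplicities in the restriction. -/
theorem mlt_restrict {F : G → ℂ} {H : Subgroup G} {n : Cfsg.IrrCharacter H → ℕ}
    (hexp : ∀ h : H, F (h : G) = ∑ θ : Cfsg.IrrCharacter H, (n θ : ℂ) * (θ : H → ℂ) h)
    {t : H} (ht : t ^ p = 1) (l : ZMod p) :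
    mlt p F (t : G) l = ∑ θ : Cfsg.IrrCharacter H, n θ * mlt p (θ : H → ℂ) t l :=
  mlt_comb Finset.univ n (fun θ => isCharacter_irr θ) ht
    (fun z => by rw [← hexp (t ^ z.val), SubgroupClass.coe_pow]) l

theorem mlt_le {F : G → ℂ} {H : Subgroup G} {n : Cfsg.IrrCharacter H → ℕ}
    (hexp : ∀ h : H, F (h : G) = ∑ θ : Cfsg.IrrCharacter H, (n θ : ℂ) * (θ : H → ℂ) h)
    {t : H} (ht : t ^ p = 1) {θ : Cfsg.IrrCharacter H} (hθ : n θ ≠ 0) (l : ZMod p) :
    mlt p (θ : H → ℂ) t l ≤ mlt p F (t : G) l := by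
  classical
  rw [mlt_restrict hexp ht]
  exact (Nat.le_mul_of_pos_left _ (Nat.pos_of_ne_zero hθ)).trans
    (Finset.single_le_sum (f := fun θ : Cfsg.IrrCharacter H => n θ * mlt p (θ : H → ℂ) t l)
      (fun _ _ => Nat.zero_le _) (Finset.mem_univ θ))

/-- The multiplicities of a power. -/
theorem mlt_pow {H : Type u} [Group H] [Finite H] {F : H → ℂ} (hF : Cfsg.IsCharacter H F) {t : H}
    (ht : t ^ p = 1) {j : ZMod p} (hj : j ≠ 0) (l : ZMod p) :
    mlt p F (t ^ j.val) (j * l) = mlt p F t l := by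
  have h1 := mlt_eq (F := F) (a := t ^ j.val) (c := fun l => mlt p F t (l * j⁻¹)) (fun z => ?_)
    (j * l)
  · rw [h1, mul_comm j l, mul_assoc, mul_inv_cancel₀ hj, mul_one]
  · rw [← pow_val_mul ht, value hF ht]
    refine Fintype.sum_equiv (Equiv.mulRight₀ j hj) _ _ fun m => ?_
    show (mlt p F t m : ℂ) * chr p (m * (j * z)) = (mlt p F t (m * j * j⁻¹) : ℂ) * chr p (m * j * z)
    rw [mul_assoc m j j⁻¹, mul_inv_cancel₀ hj, mul_one, mul_assoc]

variable {χ : Cfsg.IrrCharacter G}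

open scoped Classical in
/-- The facts about a constituent on a proper subgroup. -/
theorem link (C : Ctx p χ) {H : Subgroup G} (hH : H ⊔ Subgroup.center G ≠ ⊤)
    (θ : Cfsg.IrrCharacter H) (hd : Cfsg.charDegree (θ : H → ℂ) ≤ 16) {a b : H}
    (ha : PEl p a) (hb : PEl p b)
    (hab : (θ : H → ℂ) (a * b * a⁻¹ * b⁻¹) ≠ (θ : H → ℂ) 1) :
    p ≤ 2 * Cfsg.charDegree (θ : H → ℂ) + 1 ∧
    (∀ t : H, t ^ p = 1 → ¬ Scal (θ : H → ℂ) t →
      p ≤ 2 * (supp p (θ : H → ℂ) t).card + 1 ∧
      ∀ j : ZMod p, j ≠ 1 → j ≠ 0 → (∀ l, mlt p (θ : H → ℂ) t (j * l) = mlt p (θ : H → ℂ) t l) →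
        9 ≤ (Finset.univ.filter fun l => l ≠ 0 ∧ mlt p (θ : H → ℂ) t l = 1).card) ∧
    (∀ t u : H, t ^ p = 1 → u ^ p = 1 → Commute t u → ¬ Scal (θ : H → ℂ) t →
      ∃ i : ℕ, Scal (θ : H → ℂ) (u * t ^ i)) ∧
    ∀ u : H, u ^ p ^ 2 = 1 → Scal (θ : H → ℂ) (u ^ p) := by
  classical
  have hp : p.Prime := Fact.out
  have hbig := C.big
  obtain ⟨K, iG, iF, φ, L, π, hfaith, hdeg, hcen, hπ, hπker, hLP, hLord, hLmul, hLcomm, hLscal⟩ :=
    Normalise.exists_norm (p := p) θ (by omega)
  have hKnc : Noncomm p K :=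
    ⟨L a, L b, hLP a ha, hLP b hb, fun hc => hab (hLcomm a b ha hb hc)⟩
  have hmeas : (Subgroup.center K).index < (Subgroup.center G).index := by
    set Zh := (Subgroup.center G).subgroupOf H with hZh
    have h1 : (Subgroup.center K).index = π.ker.index := by
      rw [Subgroup.index_ker, Subgroup.index_eq_card, MonoidHom.range_eq_top.2 hπ,
        Subgroup.card_top]
    have hker : Zh ≤ π.ker := fun z hz => by
      rw [MonoidHom.mem_ker, hπker]
      intro k
      refine congrArg _ ?_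
      have hzk : (z : G) * k = k * z := (Subgroup.mem_center_iff.1 hz k).symm
      refine Subtype.ext ?_
      simp only [Subgroup.coe_mul, InvMemClass.coe_inv, OneMemClass.coe_one]
      rw [hzk, mul_inv_cancel_right, mul_inv_cancel]
    have h2 : (Subgroup.center G).relIndex (H ⊔ Subgroup.center G) *
        (H ⊔ Subgroup.center G).index = (Subgroup.center G).index :=
      Subgroup.relIndex_mul_index le_sup_right
    rw [Subgroup.relIndex_sup_right] at h2
    have h3 : 1 < (H ⊔ Subgroup.center G).index := by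
      have h4 : (H ⊔ Subgroup.center G).index ≠ 0 := Subgroup.index_ne_zero_of_finite
      have h5 : (H ⊔ Subgroup.center G).index ≠ 1 := fun e => hH (Subgroup.index_eq_one.1 e)
      omega
    have h4 : Zh.index ≠ 0 := Subgroup.index_ne_zero_of_finite
    calc (Subgroup.center K).index ≤ Zh.index := h1 ▸
          Nat.le_of_dvd (Nat.pos_of_ne_zero h4) (Subgroup.index_dvd_of_le hker)
      _ < Zh.index * (H ⊔ Subgroup.center G).index :=
          lt_mul_of_one_lt_right (Nat.pos_of_ne_zero h4) h3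
      _ = _ := h2
  have hsq := C.ih K φ hfaith (hdeg ▸ hd) hcen hKnc (Or.inl hmeas)
  have hhyp : ∀ k : K, orderOf k = p → Hyp p k φ := fun k hk =>
    hyp_of_sq hfaith hbig (hdeg ▸ hd) hKnc hsq hk
  have hord : ∀ k : K, PEl p k → k ^ p = 1 := fun k ⟨j, hj⟩ => by
    obtain ⟨i, -, hi⟩ := (Nat.dvd_prime_pow hp).1 (orderOf_dvd_of_pow_eq_one hj)
    refine orderOf_dvd_iff_pow_eq_one.1 ?_
    have hi2 : i < 2 := by
      by_contra hcon
      exact hsq ((pow_dvd_pow p (by omega)).trans (hi ▸ orderOf_dvd_natCard k))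
    rw [hi]
    conv_rhs => rw [← pow_one p]
    exact pow_dvd_pow p (by omega)
  have hnontriv : ∀ t : H, t ^ p = 1 → ¬ Scal (θ : H → ℂ) t → orderOf (L t) = p := fun t ht hns =>
    orderOf_eq_prime (hLord t ht).1 fun h1 => hns (hLscal t (PEl.of_pow_eq_one ht) h1)
  refine ⟨?_, fun t ht hns => ?_, fun t u ht hu htu hns => ?_, fun u hu => ?_⟩
  · obtain ⟨k, hk⟩ := (hLP a ha).exists_order (fun h1 => hab
      (hLcomm a b ha hb (by rw [h1]; exact Commute.one_left _)))
    rw [← hdeg]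
    exact FeitSmall.Setup.le_deg (hhyp _ hk)
  · obtain ⟨-, c, hc⟩ := hLord t ht
    have hshift : ∀ l, mlt p (φ : K → ℂ) (L t) l = mlt p (θ : H → ℂ) t (l - c) :=
      mlt_shift (isCharacter_irr θ) ht hc
    have hg : ∀ l, mlt p (θ : H → ℂ) t l = mlt p (φ : K → ℂ) (L t) (l + c) := fun l => by
      rw [hshift, add_sub_cancel_right]
    have hsupp : supp p (φ : K → ℂ) (L t) =
        (supp p (θ : H → ℂ) t).map (Equiv.addRight c).toEmbedding := by
      ext l
      rw [Finset.mem_map_equiv, mem_supp, mem_supp, hshift]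
      simp [sub_eq_add_neg]
    obtain ⟨f1, f2, f3⟩ := Count.facts (hhyp _ (hnontriv t ht hns))
    rw [hsupp, Finset.card_map] at f1
    refine ⟨f1, fun j hj1 hj0 hinv => ?_⟩
    have hone : ∀ l, l ≠ 0 → mlt p (θ : H → ℂ) t l ≤ 1 := by
      intro l hl
      by_cases hlc : l + c = 0
      · by_contra hcon
        have h1 := hinv l
        have h2 : j * l + c ≠ 0 := fun e => hl (by
          have h3 : (j - 1) * l = 0 := by linear_combination e - hlc
          exact (mul_eq_zero.1 h3).resolve_left (sub_ne_zero.2 hj1))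
        have h3 := f2 hbig (hdeg ▸ hd) _ h2
        rw [← hg, h1] at h3
        exact hcon h3
      · rw [hg]
        exact f2 hbig (hdeg ▸ hd) _ hlc
    have hsub : (supp p (θ : H → ℂ) t).erase 0 ⊆
        Finset.univ.filter fun l => l ≠ 0 ∧ mlt p (θ : H → ℂ) t l = 1 := fun l hl => by
      obtain ⟨hl0, hls⟩ := Finset.mem_erase.1 hl
      refine Finset.mem_filter.2 ⟨Finset.mem_univ _, hl0, ?_⟩
      have := hone l hl0
      have := mem_supp.1 hls
      omega
    refine le_trans ?_ (Finset.card_le_card hsub)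
    by_cases h0 : (0 : ZMod p) ∈ supp p (θ : H → ℂ) t
    swap
    · rw [Finset.erase_eq_of_notMem h0]
      omega
    rw [Finset.card_erase_of_mem h0]
    by_contra hlt
    have h9 : (supp p (θ : H → ℂ) t).card = 9 := by omega
    have hp19 : p = 19 := by omega
    obtain ⟨hsum, hz⟩ := f3 hp19 (by rw [hsupp, Finset.card_map, h9])
    rw [hsupp, Finset.sum_map] at hsum
    simp only [Equiv.toEmbedding_apply, Equiv.coe_addRight, Finset.sum_add_distrib, Finset.sum_const,
      h9, nsmul_eq_mul] at hsum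
    have hS : ∑ l ∈ supp p (θ : H → ℂ) t, l = 0 := by
      refine (mul_eq_zero.1 (?_ : (j - 1) * _ = 0)).resolve_left (sub_ne_zero.2 hj1)
      rw [sub_mul, one_mul, sub_eq_zero, Finset.mul_sum]
      refine Finset.sum_equiv (Equiv.mulLeft₀ j hj0) (fun l => ?_) fun l _ => rfl
      rw [mem_supp, mem_supp, show Equiv.mulLeft₀ j hj0 l = j * l from rfl, hinv]
    rw [hS, zero_add] at hsum
    have h9' : ((9 : ℕ) : ZMod p) ≠ 0 := by
      rw [Ne, ZMod.natCast_eq_zero_iff]
      intro hd'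
      have := Nat.le_of_dvd (by norm_num) hd'
      omega
    have hc0 := (mul_eq_zero.1 hsum).resolve_left h9'
    apply hz
    rw [mem_supp, hshift, hc0, sub_zero]
    exact mem_supp.1 h0
  · have htp := PEl.of_pow_eq_one ht
    have hup := PEl.of_pow_eq_one hu
    have ho := hnontriv t ht hns
    have hc : Commute (L t) (L u) := by
      show L t * L u = L u * L t
      rw [← hLmul t u htp hup htu, ← hLmul u t hup htp htu.symm, htu.eq]
    set Z := Subgroup.zpowers (L t)
    have hle : Subgroup.zpowers (L u) ≤ Subgroup.normalizer (Z : Set K) := by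
      rw [Subgroup.zpowers_le, Subgroup.mem_normalizer_iff]
      intro w
      have hcw : ∀ v ∈ Z, Commute (L u) v := by
        rintro _ ⟨i, rfl⟩
        exact hc.symm.zpow_right i
      refine ⟨fun hw => by rwa [(hcw w hw).eq, mul_inv_cancel_right], fun hw => ?_⟩
      have h1 := (hcw _ hw).eq
      rw [inv_mul_cancel_right] at h1
      rwa [mul_left_cancel h1] at hw
    have hpg := (hLP u hup).isPGroup_zpowers.to_sup_of_normal_right'
      ((hLP t htp).isPGroup_zpowers) hle
    obtain ⟨i, hi⟩ := hpg.exists_card_eq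
    have hi2 : i < 2 := by
      by_contra hcon
      exact hsq ((pow_dvd_pow p (by omega)).trans (hi ▸ Subgroup.card_subgroup_dvd_card _))
    have heq : Z = Subgroup.zpowers (L u) ⊔ Z := Subgroup.eq_of_le_of_card_ge le_sup_right (by
      rw [Nat.card_zpowers, ho, hi]
      calc p ^ i ≤ p ^ 1 := Nat.pow_le_pow_right hp.pos (by omega)
        _ = p := pow_one p)
    obtain ⟨s, hs⟩ := (mem_zpowers_iff_val (hLord t ht).1).1
      (heq ▸ Subgroup.mem_sup_left (Subgroup.mem_zpowers (L u)))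
    have hLpow : ∀ m : ℕ, L (t ^ m) = L t ^ m := by
      intro m
      induction m with
      | zero =>
        have h1 := hLmul 1 1 ⟨0, one_pow _⟩ ⟨0, one_pow _⟩ (Commute.refl 1)
        rw [one_mul, left_eq_mul] at h1
        rw [pow_zero, pow_zero, h1]
      | succ m ihm =>
        rw [pow_succ, hLmul _ _ (htp.pow m) htp (Commute.pow_self t m), ihm, pow_succ]
    refine ⟨(-s).val, hLscal _ (hup.mul (htp.pow _) (htu.symm.pow_right _)) ?_⟩
    rw [hLmul u _ hup (htp.pow _) (htu.symm.pow_right _), hLpow, ← hs,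
      ← pow_val_add (hLord t ht).1, add_neg_cancel, ZMod.val_zero, pow_zero]
  · have hup : PEl p u := ⟨2, hu⟩
    have hLpow : ∀ m : ℕ, L (u ^ m) = L u ^ m := by
      intro m
      induction m with
      | zero =>
        have h1 := hLmul 1 1 ⟨0, one_pow _⟩ ⟨0, one_pow _⟩ (Commute.refl 1)
        rw [one_mul, left_eq_mul] at h1
        rw [pow_zero, pow_zero, h1]
      | succ m ihm =>
        rw [pow_succ, hLmul _ _ (hup.pow m) hup (Commute.pow_self u m), ihm, pow_succ]
    exact hLscal _ (hup.pow p) (by rw [hLpow, hord _ (hLP u hup)])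

end Cfsg.Agent.Lib.Sixteen80.Reduce
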