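import Cfsg.Agent.Lib.Sixteen80.Prime
import Cfsg.Agent.Lib.Sixteen80.Eleven
import Cfsg.Agent.Lib.FeitSmall.Classes

/-!
# Linear groups of degree 16 for the primes at least 19

Either the Sylow subgroup is normal, or `p = 31` and the group is `PSL₂(31)` modulo its centre.
-/

set_option autoImplicit false
set_option linter.unusedSectionVars false
set_option linter.style.haveILetI false

namespace Cfsg.Agent.Lib.Sixteen80.Top

open Cfsg.Agent.Lib Cfsg.Agent.Lib.FirstPower Average Periods Cfsg.Agent.Lib.Characters.Basic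
open Cfsg.Agent.Lib.FeitSmall Setup Spikes Eigen
open Cfsg.Agent.Lib.DegSubTwo.Reduction (gen_core nn_core core')
open Mult Reduce

attribute [local instance] BlocksChars5.Basic.irrFintype

universe u

variable {p : ℕ} [Fact p.Prime] {G : Type u} [Group G] [Finite G] {x : G}
  {ζ : Cfsg.IrrCharacter G}

/-- There are two classes. -/
theorem card_cls (h : Hyp p x ζ) (hd : Cfsg.charDegree (ζ : G → ℂ) = 16) (hp : 19 ≤ p) :
    Fintype.card (Cls h) = 2 := by
  classical
  have h1 := two_le h
  rcases h1.eq_or_lt with h2 | h2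
  · exact h2.symm
  exfalso
  have ht : 3 ≤ Fintype.card (Cls h) := h2
  obtain ⟨-, -, hdeg, -⟩ := exists_value h ht
  have hte := card_mul h
  rw [hd] at hdeg
  have hp33 := le_deg h
  rw [hd] at hp33
  have hpp : p.Prime := Fact.out
  have hmul : 3 * Fintype.card (ex h) ≤ Fintype.card (Cls h) * Fintype.card (ex h) :=
    Nat.mul_le_mul_right _ ht
  have h19 : p = 19 := by
    have hle : p ≤ 23 := by omega
    interval_cases p
    · rfl
    all_goals exfalso
    all_goals revert hpp
    all_goals norm_num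
    have he : Fintype.card (ex h) = 7 := by omega
    rw [he] at hte
    omega
  subst h19
  -- pass to the normal closure
  set H := core' x with hH
  have hxH : x ∈ H := Subgroup.subset_normalClosure rfl
  set y : H := ⟨x, hxH⟩ with hy
  have hyo : orderOf y = 19 := by rw [← h.ord, ← Subgroup.orderOf_coe]
  have h2H : ¬ 19 ^ 2 ∣ Nat.card H := fun h' => h.sq (h'.trans (Subgroup.card_subgroup_dvd_card H))
  let ζH : Cfsg.IrrCharacter H := ⟨_, restrict_irr h⟩
  have hdegH : Cfsg.charDegree (ζH : H → ℂ) = Cfsg.charDegree (ζ : G → ℂ) :=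
    BlocksChars5.Basic.charDegree_congr rfl
  have hyH : Hyp 19 y ζH := ⟨h.lt, hyo, h2H, nn_core h.ord h.sq h.nn, hdegH ▸ h.deg,
    fun a ha => Subtype.ext (h.faith _ ha)⟩
  have hteH := card_mul hyH
  have ht' : 3 ≤ Fintype.card (Cls hyH) := by
    have h3 := two_le hyH
    by_contra hne
    have h4 := Two.degree_cases hyH (by omega)
    rw [hdegH, hd] at h4
    omega
  obtain ⟨y', hy', hexeq, st⟩ := exists_std hyH ht'
  have hgen' : Subgroup.normalClosure ({y'} : Set H) = ⊤ := by
    have hmem : y ∈ Subgroup.normalClosure ({y'} : Set H) := Slice.mem_of_dvd hyH _ (by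
      have h3 : y' ∈ Subgroup.normalClosure ({y'} : Set H) := Subgroup.subset_normalClosure rfl
      exact hy'.ord ▸ Subgroup.orderOf_dvd_natCard _ h3)
    rw [eq_top_iff, ← gen_core h.ord h.sq]
    exact Subgroup.normalClosure_le_normal (Set.singleton_subset_iff.2 hmem)
  exact Eleven.contradiction (h := hy') ⟨hgen', st, hdegH.trans hd⟩

/-- The main result. -/
theorem main (χ : Cfsg.IrrCharacter G) (hdeg : Cfsg.charDegree (χ : G → ℂ) = 16)
    (hfaith : ∀ g : G, (χ : G → ℂ) g = (χ : G → ℂ) 1 → g = 1) (hp : 19 ≤ p) (P : Sylow p G) :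
    (P : Subgroup G).Normal ∨ (p = 31 ∧ Nonempty (G ⧸ Subgroup.center G ≃*
      Matrix.ProjectiveSpecialLinearGroup (Fin 2) (ZMod 31))) := by
  classical
  by_cases hnc : Noncomm p G
  swap
  · refine Or.inl (normal_of_commute P fun a b ha hb => ?_)
    by_contra hab
    exact hnc ⟨a, b, ha, hb, hab⟩
  right
  have hppr : p.Prime := Fact.out
  obtain ⟨K, _, _, φ, L, π, hφf, hφd, hcen, hπ, hπker, hLpel, -, -, hLcomm, -⟩ :=
    Normalise.exists_norm (p := p) χ (by rw [hdeg]; omega)
  rw [hdeg] at hφd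
  obtain ⟨a, b, ha, hb, hab⟩ := hnc
  have hcomm_iff : ∀ u v : G, (χ : G → ℂ) (u * v * u⁻¹ * v⁻¹) = (χ : G → ℂ) 1 → Commute u v := by
    intro u v e
    have h1 := hfaith _ e
    rw [mul_inv_eq_one, mul_inv_eq_iff_eq_mul] at h1
    exact h1
  have hab' : ¬ Commute (L a) (L b) := fun hc => hab (hcomm_iff a b (hLcomm a b ha hb hc))
  have hncK : Noncomm p K := ⟨L a, L b, hLpel a ha, hLpel b hb, hab'⟩
  have hsq := Prime.not_sq_dvd φ hp hφf (by omega) hcen hncK
  have hLa : L a ≠ 1 := fun e => hab' (e ▸ Commute.one_left _)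
  obtain ⟨k, hk⟩ := (hLpel a ha).exists_order hLa
  have h := hyp_of_sq hφf hp (by omega) hncK hsq hk
  have h2 := card_cls h hφd hp
  obtain ⟨⟨e⟩, hcases⟩ := Two.psl_of_two h h2
  have h31 : p = 31 := by
    rw [hφd] at hcases
    rcases hcases with hc | hc
    · exact absurd hppr (by rw [← hc]; norm_num)
    · omega
  have hker : π.ker = Subgroup.center G := by
    ext g
    rw [MonoidHom.mem_ker, hπker, Subgroup.mem_center_iff]
    constructor
    · intro hg v
      exact (hcomm_iff g v (hg v)).eq.symm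
    · intro hg v
      rw [← hg v, mul_inv_cancel_right, mul_inv_cancel]
  refine ⟨h31, ⟨?_⟩⟩
  let e1 : G ⧸ Subgroup.center G ≃* K ⧸ Subgroup.center K :=
    (QuotientGroup.quotientMulEquivOfEq hker.symm).trans
      (QuotientGroup.quotientKerEquivOfSurjective π hπ)
  subst h31
  exact e1.trans e

end Cfsg.Agent.Lib.Sixteen80.Top
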