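import Cfsg.Agent.Lib.FeitSmall.Main
import Cfsg.Agent.Lib.FeitSmall.Slice
import Cfsg.Agent.Lib.H80.ClassMult

/-!
# The slice of the trivial central character for a character of degree 16 and `p = 19`
-/

set_option autoImplicit false
set_option linter.unusedSectionVars false
set_option linter.style.haveILetI false

namespace Cfsg.Agent.Lib.Sixteen80.Trivial

open Cfsg.Agent.Lib Cfsg.Agent.Lib.FirstPower Average Periods Cfsg.Agent.Lib.Characters.Basic
open Family (pow_eq_one_of_order)
open Cfsg.Agent.Lib.DegSubTwo.Basic (lam lam_one lam_mul lam_mul_conj lam_pow apply_mul_central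
  conj_lam)
open FeitSmall FeitSmall.Setup FeitSmall.Spikes FeitSmall.Eigen
open Cfsg.Agent.Lib.FeitSmall.Slice (Fam exists_family)
open Cfsg.Agent.Lib.FeitSmall.Cyclotomy (negc)
open scoped ComplexConjugate

attribute [local instance] BlocksChars5.Basic.irrFintype

universe u

/-- The standing situation. -/
structure Sit {G : Type u} [Group G] [Finite G] [Fact (Nat.Prime 19)] {x : G}
    {ζ : Cfsg.IrrCharacter G} (h : Hyp 19 x ζ) : Prop where
  gen : Subgroup.normalClosure ({x} : Set G) = ⊤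
  std : Std h
  deg : Cfsg.charDegree (ζ : G → ℂ) = 16

variable [Fact (Nat.Prime 19)] {G : Type u} [Group G] [Finite G] {x : G}
  {ζ : Cfsg.IrrCharacter G} {h : Hyp 19 x ζ}

theorem Sit.e_eq (S : Sit h) : Fintype.card (ex h) = 3 := by
  have h1 := S.std.deg
  rw [S.deg] at h1
  omega

theorem Sit.t_eq (S : Sit h) : Fintype.card (Cls h) = 6 := by
  have h1 := card_mul h
  rw [S.e_eq] at h1
  omega

theorem Sit.negc_ne (S : Sit h) : negc (ex h) ≠ 1 := fun h1 => by
  have h2 := (FeitSmall.Bounds.negc_eq_one_iff h).1 h1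
  rw [S.e_eq] at h2
  exact absurd h2 (by decide)

/-- `x` is not conjugate to its inverse. -/
theorem Sit.not_conj_inv (S : Sit h) : ¬ IsConj x x⁻¹ := fun hc => by
  refine S.negc_ne ?_
  rw [negc, QuotientGroup.eq_one_iff, mem_autE]
  have hxp := pow_eq_one_of_order h.ord
  have : x ^ ((-1 : (ZMod 19)ˣ) : ZMod 19).val = x⁻¹ := by
    refine eq_inv_of_mul_eq_one_left ?_
    conv_lhs => arg 2; rw [← pow_val_one hxp]
    rw [← pow_val_add hxp, Units.val_neg, Units.val_one, neg_add_cancel, ZMod.val_zero, pow_zero]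
  rw [this]
  exact hc

/-- A normal subgroup not containing `x` is central. -/
theorem Sit.le_center (S : Sit h) (K : Subgroup G) [K.Normal] (hxK : x ∉ K) :
    K ≤ Subgroup.center G := by
  have hpK : ¬ 19 ∣ Nat.card K := fun hd => hxK (FeitSmall.Slice.mem_of_dvd h K hd)
  have hcomm := FeitSmall.Half.centralizes h.ord hpK (isCharacter_irr ζ) h.faith h.deg
  intro a ha
  refine mem_center_of_core h fun b hb => ?_
  have hle : DegSubTwo.Reduction.core' x ≤ Subgroup.centralizer (K : Set G) :=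
    Subgroup.normalClosure_le_normal (by
      rw [Set.singleton_subset_iff, SetLike.mem_coe, Subgroup.mem_centralizer_iff]
      exact fun c hc => hcomm c hc)
  exact Subgroup.mem_centralizer_iff.1 (hle hb) a ha

theorem Sit.moved (S : Sit h) {χ : Cfsg.IrrCharacter G} (hχ : χ ≠ oneChar G) :
    (χ : G → ℂ) x ≠ (χ : G → ℂ) 1 := by
  intro heq
  haveI := BlocksChars5.Basic.charKer_normal χ
  have hmem : x ∈ BlocksChars5.Basic.charKer χ := (BlocksChars5.Basic.mem_charKer χ x).2 heq
  have hall : ∀ g, (χ : G → ℂ) g = (χ : G → ℂ) 1 := fun g =>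
    (BlocksChars5.Basic.mem_charKer χ g).1
      (Subgroup.normalClosure_le_normal (Set.singleton_subset_iff.2 hmem)
        (S.gen ▸ Subgroup.mem_top g))
  haveI := Fintype.ofFinite G
  have h1 := classInner_irr_of_ne hχ
  simp only [Cfsg.classInner, oneChar_apply, map_one, mul_one, hall, Finset.sum_const,
    Finset.card_univ, nsmul_eq_mul, ← Nat.card_eq_fintype_card, ← mul_assoc,
    inv_mul_cancel₀ (Nat.cast_ne_zero.mpr Nat.card_pos.ne' : (Nat.card G : ℂ) ≠ 0), one_mul] at h1
  exact apply_one_ne_zero χ h1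

/-- The kernel of a nontrivial character is central. -/
theorem Sit.ker_central (S : Sit h) {χ : Cfsg.IrrCharacter G} (hχ : χ ≠ oneChar G) {g : G}
    (hg : (χ : G → ℂ) g = (χ : G → ℂ) 1) : g ∈ Subgroup.center G := by
  haveI := BlocksChars5.Basic.charKer_normal χ
  exact S.le_center _ (fun hm => S.moved hχ ((BlocksChars5.Basic.mem_charKer χ x).1 hm))
    ((BlocksChars5.Basic.mem_charKer χ g).2 hg)

theorem Sit.nine_le (S : Sit h) {χ : Cfsg.IrrCharacter G} (hχ : χ ≠ oneChar G) :
    9 ≤ Cfsg.charDegree (χ : G → ℂ) := by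
  have := FeitSmall.Slice.le_of_moved h χ (S.moved hχ)
  omega

/-- The trivial slice. -/
noncomputable abbrev sl (h : Hyp 19 x ζ) : Finset (Cfsg.IrrCharacter G) := slice h (lam (oneChar G))

theorem lam_oneChar (z : G) : lam (oneChar G) z = 1 := by
  simp [lam, oneChar_apply]

theorem mem_sl {χ : Cfsg.IrrCharacter G} :
    χ ∈ sl h ↔ ∀ z ∈ Subgroup.center G, lam χ z = 1 := by
  simp only [mem_slice h, lam_oneChar]

/-- A sum vanishing against all central translates vanishes on the trivial slice. -/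
theorem slice_zero (F : Cfsg.IrrCharacter G → ℂ)
    (hF : ∀ z ∈ Subgroup.center G, ∑ χ : Cfsg.IrrCharacter G, F χ * conj (lam χ z) = 0) :
    ∑ χ ∈ sl h, F χ = 0 := by
  classical
  haveI := Fintype.ofFinite G
  haveI := Fintype.ofFinite (Subgroup.center G)
  have hS : ∀ χ : Cfsg.IrrCharacter G, ∑ z : Subgroup.center G, conj (lam χ (z : G)) =
      if χ ∈ sl h then (Nat.card (Subgroup.center G) : ℂ) else 0 := by
    intro χ
    by_cases hχ : χ ∈ sl h
    · rw [if_pos hχ]
      rw [mem_sl] at hχ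
      simp only [hχ _ (Subtype.prop _), map_one, Finset.sum_const, Finset.card_univ, nsmul_eq_mul,
        mul_one, Nat.card_eq_fintype_card]
    · rw [if_neg hχ]
      rw [mem_sl] at hχ
      push Not at hχ
      obtain ⟨a, ha, hne⟩ := hχ
      have hshift : conj (lam χ a) * (∑ z : Subgroup.center G, conj (lam χ (z : G))) =
          ∑ z : Subgroup.center G, conj (lam χ (z : G)) := by
        rw [Finset.mul_sum]
        refine Fintype.sum_equiv (Equiv.mulLeft ⟨a, ha⟩) _ _ fun z => ?_
        simp only [Equiv.coe_mulLeft, Subgroup.coe_mul, lam_mul _ z.2, map_mul]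
      refine (mul_eq_zero.1 (?_ : (conj (lam χ a) - 1) *
        (∑ z : Subgroup.center G, conj (lam χ (z : G))) = 0)).resolve_left fun h0 => hne ?_
      · linear_combination hshift
      · have h1 := congrArg conj (sub_eq_zero.1 h0)
        rwa [Complex.conj_conj, map_one] at h1
  have hsum : ∑ χ : Cfsg.IrrCharacter G, F χ * ∑ z : Subgroup.center G, conj (lam χ (z : G)) = 0 := by
    simp only [Finset.mul_sum]
    rw [Finset.sum_comm]
    exact Finset.sum_eq_zero fun z _ => hF z z.2
  simp only [hS, mul_ite, mul_zero, Finset.sum_ite_mem, Finset.univ_inter] at hsum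
  rw [← Finset.sum_mul] at hsum
  exact (mul_eq_zero.1 hsum).resolve_right (Nat.cast_ne_zero.2 Nat.card_pos.ne')

theorem dvd_orderOf_mul (h : Hyp 19 x ζ) {z : G} (hz : z ∈ Subgroup.center G) :
    19 ∣ orderOf (x * z) := by
  have hreg : ¬ 19 ∣ orderOf z := fun hd =>
    not_dvd_center h (hd.trans (Subgroup.orderOf_dvd_natCard _ hz))
  rw [(show Commute x z from Subgroup.mem_center_iff.1 hz x).orderOf_mul_eq_mul_orderOf_of_coprime
    (by rw [h.ord]; exact (Fact.out : Nat.Prime 19).coprime_iff_not_dvd.2 hreg), h.ord]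
  exact dvd_mul_right _ _

/-- Column orthogonality of `x` and a regular element. -/
theorem col_regular (h : Hyp 19 x ζ) {g : G} (hg : ¬ 19 ∣ orderOf g) :
    ∑ χ ∈ sl h, (χ : G → ℂ) g * conj ((χ : G → ℂ) x) = 0 := by
  classical
  haveI := Fintype.ofFinite G
  refine slice_zero _ fun z hz => ?_
  have h1 := BlocksChars5.Basic.second_orthogonality g (x * z)
  rw [if_neg] at h1
  · rw [← h1]
    refine Finset.sum_congr rfl fun χ _ => ?_
    rw [apply_mul_central χ hz, map_mul]
    ring
  · intro hc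
    obtain ⟨c, hc⟩ := isConj_iff.1 hc
    refine hg ?_
    rw [← MulEquiv.orderOf_eq (MulAut.conj c) g, MulAut.conj_apply, hc]
    exact dvd_orderOf_mul h hz

/-- Two conjugates of an element whose square is central do not multiply into `x Z`. -/
theorem Sit.not_isConj_mul (S : Sit h) {u : G} (hu : u * u ∈ Subgroup.center G) (a : G) {z : G}
    (hz : z ∈ Subgroup.center G) : ¬ IsConj (u * (a * u * a⁻¹)) (x * z) := by
  intro hc
  obtain ⟨c, hc⟩ := isConj_iff.1 hc
  set A := c * u * c⁻¹ with hA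
  set B := c * (a * u * a⁻¹) * c⁻¹ with hB
  have hAB : A * B = x * z := by rw [← hc, hA, hB]; group
  have hcj : ∀ (d : G), d * (u * u) * d⁻¹ = u * u := fun d => by
    rw [Subgroup.mem_center_iff.1 hu d, mul_inv_cancel_right]
  have hA2 : A * A = u * u := by
    rw [hA]
    exact (show c * u * c⁻¹ * (c * u * c⁻¹) = c * (u * u) * c⁻¹ by group).trans (hcj c)
  have hB2 : B * B = u * u := by
    rw [hB]
    exact (show c * (a * u * a⁻¹) * c⁻¹ * (c * (a * u * a⁻¹) * c⁻¹) =
      (c * a) * (u * u) * (c * a)⁻¹ by group).trans (hcj (c * a))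
  have hx : x = A * B * z⁻¹ := by rw [hAB, mul_inv_cancel_right]
  have hzi : ∀ g : G, g * z⁻¹ = z⁻¹ * g := fun g => Subgroup.mem_center_iff.1 (inv_mem hz) g
  have hw : x * (A * x * A⁻¹) ∈ Subgroup.center G := by
    have h1 : x * (A * x * A⁻¹) = (u * u) * (u * u) * (z⁻¹ * z⁻¹) := by
      have hU : ∀ g : G, g * (u * u) = (u * u) * g := fun g => Subgroup.mem_center_iff.1 hu g
      have h2 : A * x * A⁻¹ = (u * u) * (B * A⁻¹) * z⁻¹ := by
        rw [hx, ← hA2]
        calc A * (A * B * z⁻¹) * A⁻¹ = A * A * B * (z⁻¹ * A⁻¹) := by simp only [mul_assoc]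
          _ = A * A * B * (A⁻¹ * z⁻¹) := by rw [hzi]
          _ = _ := by simp only [mul_assoc]
      rw [h2, hx]
      calc A * B * z⁻¹ * ((u * u) * (B * A⁻¹) * z⁻¹)
          = A * B * ((z⁻¹ * (u * u * (B * A⁻¹))) * z⁻¹) := by simp only [mul_assoc]
        _ = A * B * (((u * u) * (B * A⁻¹)) * (z⁻¹ * z⁻¹)) := by
          rw [← hzi]; simp only [mul_assoc]
        _ = (u * u) * (A * (B * B) * A⁻¹) * (z⁻¹ * z⁻¹) := by
          rw [← mul_assoc (A * B), ← mul_assoc (A * B), hU (A * B)]
          simp only [mul_assoc]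
        _ = _ := by rw [hB2, hcj A]
    rw [h1]
    exact mul_mem (mul_mem hu hu) (mul_mem (inv_mem hz) (inv_mem hz))
  set w := x * (A * x * A⁻¹) with hwdef
  have hconj : A * x * A⁻¹ = x⁻¹ * w := by rw [hwdef, inv_mul_cancel_left]
  have hwp : w ^ 19 = 1 := by
    have h1 : (A * x * A⁻¹) ^ 19 = (x⁻¹ * w) ^ 19 := by rw [hconj]
    rw [conj_pow, pow_eq_one_of_order h.ord, mul_one, mul_inv_cancel,
      (show Commute x⁻¹ w from Subgroup.mem_center_iff.1 hw _).mul_pow, inv_pow,
      pow_eq_one_of_order h.ord, inv_one, one_mul] at h1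
    exact h1.symm
  have hw1 : w = 1 := by
    rcases (Nat.dvd_prime (Fact.out : Nat.Prime 19)).1 (orderOf_dvd_of_pow_eq_one hwp) with h1 | h1
    · exact orderOf_eq_one_iff.1 h1
    · exact absurd (h1 ▸ Subgroup.orderOf_dvd_natCard _ hw) (not_dvd_center h)
  rw [hw1, mul_one] at hconj
  exact S.not_conj_inv (isConj_iff.2 ⟨A, hconj⟩)

/-- The class multiplication coefficient of two conjugates of `u` at `x` vanishes. -/
theorem Sit.mult_zero (S : Sit h) {u : G} (hu : u * u ∈ Subgroup.center G) :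
    ∑ χ ∈ sl h, (χ : G → ℂ) u * (χ : G → ℂ) u / (χ : G → ℂ) 1 * conj ((χ : G → ℂ) x) = 0 := by
  classical
  haveI := Fintype.ofFinite G
  refine slice_zero _ fun z hz => ?_
  have h1 : ∀ a : G, ∑ χ : Cfsg.IrrCharacter G,
      (χ : G → ℂ) (u * (a * u * a⁻¹)) * conj ((χ : G → ℂ) (x * z)) = 0 := fun a => by
    rw [BlocksChars5.Basic.second_orthogonality, if_neg (S.not_isConj_mul hu a hz)]
  have h2 : ∑ χ : Cfsg.IrrCharacter G, ∑ a : G,
      (χ : G → ℂ) (u * (a * u * a⁻¹)) * conj ((χ : G → ℂ) (x * z)) = 0 := by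
    rw [Finset.sum_comm]
    exact Finset.sum_eq_zero fun a _ => h1 a
  refine (mul_eq_zero.1 (?_ : (Nat.card G : ℂ) * _ = 0)).resolve_left
    (Nat.cast_ne_zero.2 Nat.card_pos.ne')
  refine Eq.trans ?_ h2
  rw [Finset.mul_sum]
  refine Finset.sum_congr rfl fun χ _ => ?_
  rw [← Finset.sum_mul, H80.ClassMult.sum_apply_mul_conj, apply_mul_central χ hz, map_mul]
  ring

/-- The centre has even order. -/
theorem Sit.even_center (S : Sit h) : 2 ∣ Nat.card (Subgroup.center G) := by
  by_contra hn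
  have h1 := FeitSmall.Main.card_eq_two S.std
    (Nat.odd_iff.2 (Nat.two_dvd_ne_zero.1 hn))
  rw [S.e_eq] at h1
  omega

/-- An element outside the centre whose square is central. -/
theorem Sit.exists_half (S : Sit h) :
    ∃ u : G, u * u ∈ Subgroup.center G ∧ u ∉ Subgroup.center G := by
  haveI : Fact (Nat.Prime 2) := ⟨Nat.prime_two⟩
  have hxc : x ∉ Subgroup.center G := fun hx =>
    not_dvd_center h (h.ord ▸ Subgroup.orderOf_dvd_natCard _ hx)
  have hidx : 19 ∣ (Subgroup.center G).index := by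
    have h2 := Subgroup.card_mul_index (Subgroup.center G)
    exact ((Fact.out : Nat.Prime 19).dvd_mul.1 (h2 ▸ prime_dvd_card h)).resolve_left
      (not_dvd_center h)
  have hker : Subgroup.normalClosure ({x} : Set G) ≤
      (MonoidHom.transferCenterPow G).ker := by
    refine Subgroup.normalClosure_le_normal (Set.singleton_subset_iff.2 ?_)
    refine MonoidHom.mem_ker.2 (Subtype.ext ?_)
    rw [MonoidHom.transferCenterPow_apply, OneMemClass.coe_one]
    obtain ⟨k, hk⟩ := hidx
    rw [hk, pow_mul, pow_eq_one_of_order h.ord, one_pow]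
  obtain ⟨⟨z, hz⟩, hzo⟩ := exists_prime_orderOf_dvd_card' (G := Subgroup.center G) 2 S.even_center
  rw [Subgroup.orderOf_mk] at hzo
  have h3 : z ^ (Subgroup.center G).index = 1 := by
    have := hker (S.gen ▸ Subgroup.mem_top z)
    rw [MonoidHom.mem_ker] at this
    have h4 := congrArg Subtype.val this
    rwa [MonoidHom.transferCenterPow_apply] at h4
  have h4 : 2 ∣ Nat.card (G ⧸ Subgroup.center G) := hzo ▸ orderOf_dvd_of_pow_eq_one h3
  obtain ⟨q, hq⟩ := exists_prime_orderOf_dvd_card' 2 h4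
  obtain ⟨u, rfl⟩ := QuotientGroup.mk_surjective q
  refine ⟨u, ?_, fun hu => ?_⟩
  · rw [← QuotientGroup.eq_one_iff, QuotientGroup.mk_mul, ← pow_two, ← hq, pow_orderOf_eq_one]
  · rw [(QuotientGroup.eq_one_iff u).2 hu, orderOf_one] at hq
    omega

/-- The values at an element of square in the kernel are integers. -/
theorem exists_int_value {χ : Cfsg.IrrCharacter G} (hχ : χ ∈ sl h) {u : G}
    (hu : u * u ∈ Subgroup.center G) : ∃ n : ℤ, (χ : G → ℂ) u = n := by
  obtain ⟨d, ρ, hρ, hρχ⟩ := exists_rep χ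
  haveI := hρ
  have h1 : ρ u * ρ u = 1 := by
    rw [← map_mul, FeitSmall.Budget.rho_center ρ hρχ hu, mem_sl.1 hχ _ hu, one_smul]
  set P : Module.End ℂ (Fin d → ℂ) := (2 : ℂ)⁻¹ • (1 + ρ u) with hP
  have hPP : P * P = P := by
    rw [hP, smul_mul_smul_comm, mul_add, add_mul, add_mul, h1, one_mul, mul_one, one_mul]
    rw [show (1 : Module.End ℂ (Fin d → ℂ)) + ρ u + (ρ u + 1) = (2 : ℂ) • (1 + ρ u) by
      rw [two_smul]; abel, smul_smul]
    norm_num
  have h2 := RecogThree.M11.Rep.trace_idem P hPP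
  rw [hP, map_smul, map_add, LinearMap.trace_one, smul_eq_mul, Module.finrank_fin_fun] at h2
  refine ⟨2 * (Module.finrank ℂ (LinearMap.range P) : ℤ) - d, ?_⟩
  rw [← hρχ, Representation.character]
  push_cast
  linear_combination 2 * h2

end Cfsg.Agent.Lib.Sixteen80.Trivial
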